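/-
The centraliser in M24 of a fixed-point-free element of order three has order at most 504; the other class
of elements of order three is central in a Sylow 3-subgroup.
-/
import Cfsg.Agent.Lib.Golay.ElemCent
import Cfsg.Agent.Lib.MonsterQ.Thompson.Octads
import Cfsg.Agent.Lib.Leech.Zeta

set_option autoImplicit false
set_option maxRecDepth 100000

namespace CfsgLib.MonsterQ.Thompson

open Cfsg CfsgGolay CfsgLeech

attribute [local irreducible] codeL octadL slpCodes

theorem repr_r3 : Repr e3B r3B := by rw [r3B]; exact (rep_spec rep_facts.2.2.2.1).1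

theorem ppow_two_r3 : Repr (pcomp e3B e3B) (r3B * r3B) := repr_r3.comp repr_r3

attribute [local irreducible] r3B

/-- The first three orbits. -/
def dom9 : List ℕ := [23, 11, 4, 22, 0, 12, 21, 17, 15]

/-- The images of the first three orbits. -/
def img9 (u v : ℕ) : List ℕ :=
  [23, 11, 4, u, papp e3B u, papp e3B (papp e3B u), v, papp e3B v, papp e3B (papp e3B v)]

/-- The part of a set in the first three orbits. -/
def part9 (o : ℕ) : List ℕ := (List.range 9).filter fun t => o.testBit (dom9.getD t 0)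

/-- The images of one octad lie in an octad. -/
def octB (u v o : ℕ) : Bool :=
  Nat.ble (part9 o).length 5 ||
    let m := orBits ((part9 o).map fun t => (img9 u v).getD t 0)
    octAll.any fun o' => Nat.beq (Nat.land o' m) m

/-- The images of the first three orbits are possible. -/
def pairB (p : ℕ × ℕ) : Bool := decide (img9 p.1 p.2).Nodup && octW.all (octB p.1 p.2)

/-- The possible images. -/
def pairs : List (ℕ × ℕ) :=
  ((List.range 24).flatMap fun u => (List.range 24).map fun v => (u, v)).filter pairB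

theorem pairs_count : pairs.length ≤ 21 := by decide +kernel

theorem octW_checked : (octW.all fun o => Nat.blt o (2 ^ 24) && inCode o && Nat.beq (pc o) 8) = true := by
  decide +kernel

theorem octAll_checked : (octadL.all fun o => octAll.any (Nat.beq o)) = true := by
  unfold octadL
  decide +kernel

theorem dom_checked : (∀ t < 9, dom9.getD t 0 < 24) ∧ dom9.Nodup ∧
    [23, papp e3B 23, papp e3B (papp e3B 23)] = [23, 11, 4] ∧
    [22, papp e3B 22, papp e3B (papp e3B 22)] = [22, 0, 12] ∧
    [21, papp e3B 21, papp e3B (papp e3B 21)] = [21, 17, 15] ∧ (∀ k < 24, papp e3B k < 24) := by decide +kernel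

/-- The forcing steps, with the literal list of octads. -/
def forceB : List ℕ → List ℕ → Bool
  | l, [] => (List.range 24).all fun x => l.contains x
  | l, x :: rest => Nat.blt x 24 && !l.contains x &&
      ((List.range 24).all fun y => Nat.beq y x || (l.contains y ||
        octAll.any fun o => Nat.ble 5 (pc (o &&& fixMask l)) && (o.testBit x != o.testBit y))) && forceB (x :: l) rest

theorem octAll_ok : (octAll.all fun o => Nat.blt o (2 ^ 24) && inCode o && Nat.beq (pc o) 8) = true := by
  decide +kernel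

theorem forceB_sound : ∀ (rest l : List ℕ), forceB l rest = true → forcedOK [] l rest = true
  | [], l, h => h
  | x :: rest, l, h => by
    simp only [forceB, Bool.and_eq_true, List.all_eq_true, Bool.or_eq_true, List.any_eq_true] at h
    simp only [forcedOK, separated, Bool.and_eq_true, List.all_eq_true, Bool.or_eq_true, List.any_eq_true]
    refine ⟨⟨h.1.1, fun y hy => ?_⟩, forceB_sound rest (x :: l) h.2⟩
    rcases h.1.2 y hy with e | e | ⟨o, ho, e⟩
    · exact Or.inl e
    · exact Or.inr (Or.inl (Or.inl e))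
    · refine Or.inr (Or.inr ⟨o, ?_, e⟩)
      have ho' := List.all_eq_true.mp octAll_ok o ho
      simp only [Bool.and_eq_true, Nat.blt_eq] at ho'
      have := mem_octads.mp (toSet_mem_octads' ho'.1.1 ⟨ho'.1.2, Nat.eq_of_beq_eq_true ho'.2⟩)
      rwa [toMask_toSet ho'.1.1] at this

theorem forceB_checked : forceB dom9 [1, 2, 3, 5, 6, 7, 8, 9, 10, 13, 14, 16, 18, 19, 20] = true := by
  decide +kernel

theorem forced_checked : forcedOK [] dom9 [1, 2, 3, 5, 6, 7, 8, 9, 10, 13, 14, 16, 18, 19, 20] = true :=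
  forceB_sound _ _ forceB_checked

variable {σ : Equiv.Perm GolayPt}

theorem comm_idx' {c : ℕ} {r : Equiv.Perm GolayPt} (hr : Repr c r) (hσ : σ * r = r * σ) {k : ℕ} (hk : k < 24) :
    idx (σ (pt (papp c k))) = papp c (idx (σ (pt k))) := by
  have h := congrArg (fun g : Equiv.Perm GolayPt => g (pt k)) hσ
  simp only [Equiv.Perm.mul_apply] at h
  rw [← hr.apply_pt hk, h]
  exact hr (σ (pt k))

theorem comm_idx (hσ : σ * r3B = r3B * σ) {k : ℕ} (hk : k < 24) :
    idx (σ (pt (papp e3B k))) = papp e3B (idx (σ (pt k))) :=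
  comm_idx' repr_r3 hσ hk

theorem img_eq (hσ : σ * r3B = r3B * σ) (h0 : σ (pt 23) = pt 23) {t : ℕ} (ht : t < 9) :
    idx (σ (pt (dom9.getD t 0))) = (img9 (idx (σ (pt 22))) (idx (σ (pt 21)))).getD t 0 := by
  obtain ⟨-, -, e1, e2, e3, hlt⟩ := dom_checked
  simp only [List.cons.injEq, and_true] at e1 e2 e3
  have i23 : idx (σ (pt 23)) = 23 := by rw [h0, idx_pt (by norm_num)]
  have c := @comm_idx σ hσ
  interval_cases t
  · exact i23
  · show idx (σ (pt 11)) = 11
    rw [← e1.2.1, c (by norm_num), i23]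
  · show idx (σ (pt 4)) = 4
    rw [← e1.2.2, c (hlt _ (by norm_num)), c (by norm_num), i23]
  · rfl
  · show idx (σ (pt 0)) = papp e3B (idx (σ (pt 22)))
    rw [← e2.2.1, c (by norm_num)]
  · show idx (σ (pt 12)) = papp e3B (papp e3B (idx (σ (pt 22))))
    rw [← e2.2.2, c (hlt _ (by norm_num)), c (by norm_num)]
  · rfl
  · show idx (σ (pt 17)) = papp e3B (idx (σ (pt 21)))
    rw [← e3.2.1, c (by norm_num)]
  · show idx (σ (pt 15)) = papp e3B (papp e3B (idx (σ (pt 21))))
    rw [← e3.2.2, c (hlt _ (by norm_num)), c (by norm_num)]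

theorem pair_mem (hM : σ ∈ M24) (hσ : σ * r3B = r3B * σ) (h0 : σ (pt 23) = pt 23) :
    (idx (σ (pt 22)), idx (σ (pt 21))) ∈ pairs := by
  classical
  refine List.mem_filter.mpr ⟨List.mem_flatMap.mpr ⟨_, List.mem_range.mpr (idx_lt _),
    List.mem_map.mpr ⟨_, List.mem_range.mpr (idx_lt _), rfl⟩⟩, ?_⟩
  obtain ⟨hd, hnd, -, -, -, -⟩ := dom_checked
  have hl : (img9 (idx (σ (pt 22))) (idx (σ (pt 21)))) = dom9.map fun x => idx (σ (pt x)) := by
    refine List.ext_getElem (by rfl) fun t h1 h2 => ?_
    have ht : t < 9 := h1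
    have h := img_eq hσ h0 ht
    rw [List.getD_eq_getElem _ _ h1, List.getD_eq_getElem _ _ (show t < dom9.length from ht)] at h
    rw [List.getElem_map, ← h]
  simp only [pairB, Bool.and_eq_true, decide_eq_true_eq, List.all_eq_true]
  refine ⟨?_, fun o ho => ?_⟩
  · rw [hl]
    refine List.Nodup.map_on (fun x hx y hy he => ?_) hnd
    obtain ⟨a, ha, rfl⟩ := List.getElem_of_mem hx
    obtain ⟨b, hb, rfl⟩ := List.getElem_of_mem hy
    have h1 := hd a ha
    have h2 := hd b hb
    rw [List.getD_eq_getElem _ _ ha] at h1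
    rw [List.getD_eq_getElem _ _ hb] at h2
    have := σ.injective (idx_injective he)
    rw [← idx_pt h1, this, idx_pt h2]
  · rw [octB, Bool.or_eq_true]
    have ho' := List.all_eq_true.mp octW_checked o ho
    simp only [Bool.and_eq_true, Nat.blt_eq] at ho'
    refine Or.inr (List.any_eq_true.mpr ⟨toMask ((toSet o).image σ), ?_, ?_⟩)
    · have h8 := image_mem_octads hM (toSet_mem_octads' ho'.1.1 ⟨ho'.1.2, Nat.eq_of_beq_eq_true ho'.2⟩)
      obtain ⟨x, hx, he⟩ := List.any_eq_true.mp (List.all_eq_true.mp octAll_checked _ (mem_octads.mp h8))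
      rw [Nat.eq_of_beq_eq_true he]; exact hx
    · rw [show ∀ a b : ℕ, Nat.beq a b = true ↔ a = b from fun a b => ⟨Nat.eq_of_beq_eq_true, fun h => h ▸ Nat.beq_refl a⟩]
      refine Nat.eq_of_testBit_eq fun j => ?_
      show (toMask ((toSet o).image σ) &&& _).testBit j = _
      rw [Nat.testBit_and]
      cases hj : (orBits ((part9 o).map fun t => (img9 (idx (σ (pt 22))) (idx (σ (pt 21)))).getD t 0)).testBit j
      · rw [Bool.and_false]
      · rw [Bool.and_true, testBit_orBits, List.mem_map] at *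
        obtain ⟨t, ht, rfl⟩ := hj
        obtain ⟨ht9, hto⟩ := List.mem_filter.mp ht
        have ht9 := List.mem_range.mp ht9
        rw [← img_eq hσ h0 ht9, testBit_toMask]
        exact Finset.mem_image_of_mem _ (by rw [mem_toSet, idx_pt (hd t ht9)]; exact hto)

theorem eq_one_of_pair (hM : σ ∈ M24) (hσ : σ * r3B = r3B * σ) (h0 : σ (pt 23) = pt 23)
    (h1 : σ (pt 22) = pt 22) (h2 : σ (pt 21) = pt 21) : σ = 1 := by
  refine eq_one_of_forced hM (by simp) _ _ forced_checked (mem_fixL.mpr fun p hp => ?_)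
  obtain ⟨t, ht, he⟩ := List.getElem_of_mem hp
  have h := img_eq hσ h0 (show t < 9 from ht)
  rw [h1, h2, idx_pt (show 22 < 24 by norm_num), idx_pt (show 21 < 24 by norm_num),
    List.getD_eq_getElem _ _ ht, he, pt_idx] at h
  refine idx_injective (h.trans ?_)
  rw [← he, ← List.getD_eq_getElem _ 0 ht]
  obtain ⟨-, -, e1, e2, e3, -⟩ := dom_checked
  simp only [List.cons.injEq, and_true] at e1 e2 e3
  have ht9 : t < 9 := ht
  interval_cases t <;> decide +kernel

theorem cent_r3_card : Nat.card ↥(centM r3B) ≤ 504 := by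
  classical
  let f : ↥(centM r3B) → GolayPt := fun σ => σ.1 (pt 23)
  let rp : GolayPt → ↥(centM r3B) := fun x => if h : ∃ g, f g = x then h.choose else 1
  have hrp : ∀ g, f (rp (f g)) = f g := fun g => by
    have h : ∃ g', f g' = f g := ⟨g, rfl⟩
    simp only [rp, dif_pos h]
    exact h.choose_spec
  have h0 : ∀ g, ((rp (f g))⁻¹ * g : ↥(centM r3B)).1 (pt 23) = pt 23 := fun g => by
    rw [Subgroup.coe_mul, Subgroup.coe_inv, Equiv.Perm.mul_apply, Equiv.Perm.inv_def, Equiv.symm_apply_eq]
    exact (hrp g).symm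
  let pr : ↥(centM r3B) → {p // p ∈ pairs} := fun g =>
    ⟨_, pair_mem (mem_centM.mp ((rp (f g))⁻¹ * g).2).1 (mem_centM.mp ((rp (f g))⁻¹ * g).2).2 (h0 g)⟩
  have hp : Nat.card {p // p ∈ pairs} ≤ 21 := by
    calc Nat.card {p // p ∈ pairs} ≤ Nat.card (Fin pairs.length) :=
          Nat.card_le_card_of_surjective (fun i => ⟨pairs[i.val], List.getElem_mem _⟩) fun ⟨c, hc⟩ => by
            obtain ⟨n, hn, rfl⟩ := List.getElem_of_mem hc
            exact ⟨⟨n, hn⟩, rfl⟩
      _ ≤ 21 := by rw [Nat.card_fin]; exact pairs_count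
  calc Nat.card ↥(centM r3B) ≤ Nat.card (GolayPt × {p // p ∈ pairs}) := by
        refine Nat.card_le_card_of_injective (fun g => (f g, pr g)) fun a b hab => ?_
        simp only [Prod.mk.injEq] at hab
        obtain ⟨hf, hq⟩ := hab
        have hq' := congrArg Subtype.val hq
        simp only [pr, Prod.mk.injEq] at hq'
        rw [hf] at hq'
        set x := (rp (f b))⁻¹ * a with hx
        set y := (rp (f b))⁻¹ * b with hy
        have hx0 : x.1 (pt 23) = pt 23 := by rw [hx, ← hf]; exact h0 a
        have hy0 : y.1 (pt 23) = pt 23 := h0 b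
        have key : ∀ k, x.1 (pt k) = y.1 (pt k) → (y⁻¹ * x).1 (pt k) = pt k := fun k hk => by
          rw [Subgroup.coe_mul, Subgroup.coe_inv, Equiv.Perm.mul_apply, Equiv.Perm.inv_def, Equiv.symm_apply_eq, hk]
        have h1 := eq_one_of_pair (mem_centM.mp (y⁻¹ * x).2).1 (mem_centM.mp (y⁻¹ * x).2).2
          (key 23 (hx0.trans hy0.symm)) (key 22 (idx_injective hq'.1)) (key 21 (idx_injective hq'.2))
        have hxy : y⁻¹ * x = 1 := Subtype.ext h1
        exact mul_left_cancel (inv_mul_eq_one.mp hxy).symm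
    _ ≤ 24 * 21 := by
        rw [Nat.card_prod, Nat.card_eq_fintype_card (α := GolayPt), card_univ_pt']
        exact Nat.mul_le_mul_left _ hp
    _ = 504 := rfl
where
  card_univ_pt' : Fintype.card GolayPt = 24 := by decide +kernel

/-- The other class is central in a Sylow subgroup. -/
theorem central_checked : commB 70878439125506768357904213371051072 gP3 = true ∧
    (gP3.any fun _ => true) = true ∧ permOK 70878439125506768357904213371051072 = true ∧
    gensKept 70878439125506768357904213371051072 = true ∧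
    pc (fixedMask 70878439125506768357904213371051072) = 6 ∧
    ppow 70878439125506768357904213371051072 3 = pid ∧
    (70878439125506768357904213371051072 : ℕ) ≠ pid ∧
    (70878439125506768357904213371051072 : ℕ) < 2 ^ 120 := by decide +kernel

theorem exists_central : ∃ (T : Subgroup (Equiv.Perm GolayPt)) (w : Equiv.Perm GolayPt), T ≤ M24 ∧
    Nat.card ↥T = 27 ∧ w ∈ T ∧ orderOf w = 3 ∧ (fixF w).card = 6 ∧ ∀ t ∈ T, t * w = w * t := by
  obtain ⟨hc, -, hp, hk, hf, h3, hne, hlt⟩ := central_checked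
  obtain ⟨hr, hM⟩ := rep_spec ⟨hp, hk⟩
  set w := permDec 70878439125506768357904213371051072
  obtain ⟨-, hcard⟩ := group_cert gP3_ok (show orbOK (fun e n => pcomp e.c n) gP3 pid cP3 = true by
    rw [show pid = 984818244535754528103549039458486304 by decide +kernel]; exact cP3_ok)
  have hle := Gr_le_centM gP3_ok hr hc
  haveI : Fact (Nat.Prime 3) := ⟨by norm_num⟩
  have hT : Nat.card ↥(Gr gP3) = 27 := hcard.trans rfl
  have hcm : ∀ t ∈ Gr gP3, t * w = w * t := fun t ht => (mem_centM.mp (hle ht)).2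
  have hw3 := orderOf_rep hr h3 hne hlt
  refine ⟨Gr gP3, w, Gr_le_M24 gP3_ok, hT, ?_, hw3, by rw [fixF_repr hr, card_toSet]; exact hf, hcm⟩
  -- the group generated with it is a three-subgroup of the same order
  have hwn : w ∈ Subgroup.normalizer (Gr gP3 : Set (Equiv.Perm GolayPt)) := by
    rw [Subgroup.mem_normalizer_iff]
    intro t
    constructor
    · intro ht; rwa [← hcm t ht, mul_inv_cancel_right]
    · intro ht
      have := hcm _ ht
      have e : w * t * w⁻¹ * w = w * (w * t * w⁻¹) := this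
      rw [inv_mul_cancel_right] at e
      have e2 : t = w * t * w⁻¹ := mul_left_cancel e
      rw [e2]; exact ht
  have hsup := Subgroup.coe_mul_of_left_le_normalizer_right (Subgroup.zpowers w) (Gr gP3) (Subgroup.zpowers_le.mpr hwn)
  set U := Subgroup.zpowers w ⊔ Gr gP3
  have hUle : U ≤ M24 := sup_le (Subgroup.zpowers_le.mpr hM) (Gr_le_M24 gP3_ok)
  have hU3 : IsPGroup 3 ↥U := by
    refine IsPGroup.to_sup_of_normal_right' ?_ ?_ (Subgroup.zpowers_le.mpr hwn)
    · exact IsPGroup.of_card (n := 1) (by rw [Nat.card_zpowers, hw3, pow_one])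
    · exact IsPGroup.of_card (n := 3) (by rw [hT]; norm_num)
  obtain ⟨n, hn⟩ := hU3.exists_card_eq
  have hd : Nat.card ↥U ∣ Nat.card ↥M24 := Subgroup.card_dvd_of_le hUle
  rw [hn, card_M24] at hd
  have hn3 : n ≤ 3 := by
    by_contra h
    have : 3 ^ 4 ∣ 244823040 := (pow_dvd_pow 3 (by omega)).trans hd
    norm_num at this
  have hle2 : Nat.card ↥U ≤ Nat.card ↥(Gr gP3) := by
    rw [hn, hT]; exact (Nat.pow_le_pow_right (by norm_num) hn3).trans (by norm_num)
  rw [Subgroup.eq_of_le_of_card_ge le_sup_right hle2]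
  exact Subgroup.mem_sup_left (Subgroup.mem_zpowers w)

end CfsgLib.MonsterQ.Thompson
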