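/-
A fixed-point-free element of order three of the coordinate permutations, a permutation inverting it, and
elements commuting with it.
-/
import Cfsg.Agent.Lib.MonsterQ.Thompson.Data
import Cfsg.Agent.Lib.MonsterQ.Thompson.Cent
import Cfsg.Agent.Lib.MonsterQ.Seven.Linear

set_option autoImplicit false
set_option maxRecDepth 100000
set_option linter.unusedSectionVars false
set_option linter.style.haveILetI false

namespace CfsgLib.MonsterQ.Thompson

open Cfsg CfsgGolay CfsgLeech CfsgLeech.Models CfsgCoTwoOut
open CfsgLib.MonsterQ.Seven (axN eqB el_eq el_append el_nil wordOK_append word_perm perm_apply')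
open scoped Pointwise

attribute [local irreducible] codeL octadL dodecadL slpCodes

/-- The permutation of a code and of its inverse. -/
def permOf (c d : ℕ) (h₁ : ∀ i : GolayPt, pt (papp d (idx (pt (papp c (idx i))))) = i)
    (h₂ : ∀ i : GolayPt, pt (papp c (idx (pt (papp d (idx i))))) = i) : Equiv.Perm GolayPt :=
  ⟨fun i => pt (papp c (idx i)), fun i => pt (papp d (idx i)), h₁, h₂⟩

/-- A permutation squaring it. -/
def s3 : Equiv.Perm GolayPt := permOf sqc sqci (by decide +kernel) (by decide +kernel)

theorem repr_e3i_of {r : Equiv.Perm GolayPt} (h : Repr e3B r) (h2 : pcomp e3B e3i = pid)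
    {g : Equiv.Perm GolayPt} (hg : Repr e3i g) : Repr e3i r⁻¹ := by
  have e : r * g = 1 := by
    have := h.comp hg
    rw [h2] at this
    exact this.unique repr_pid
  rwa [inv_eq_of_mul_eq_one_right e]

theorem codes_checked : gensKept sqc = true ∧ permOK e3i = true ∧ pcomp e3B e3i = pid ∧ Repr sqc s3 ∧
    pcomp sqc e3B = pcomp (pcomp e3B e3B) sqc := by decide +kernel

theorem repr_r3_inv : Repr e3i r3B⁻¹ := by
  obtain ⟨g, hg⟩ := exists_repr_of_permOK codes_checked.2.1
  exact repr_e3i_of repr_r3 codes_checked.2.2.1 hg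

theorem mem_s3 : s3 ∈ M24 := mem_M24_of_gensKept codes_checked.2.2.2.1 codes_checked.1

theorem square_conj_of {r s : Equiv.Perm GolayPt} (hr : Repr e3B r) (hs : Repr sqc s)
    (h : pcomp sqc e3B = pcomp (pcomp e3B e3B) sqc) : s * r * s⁻¹ = r ^ 2 := by
  have h1 := hs.comp hr
  have h2 := (hr.comp hr).comp hs
  rw [h] at h1
  rw [h1.unique h2, mul_inv_cancel_right, pow_two]

theorem square_conj : s3 * r3B * s3⁻¹ = r3B ^ 2 :=
  square_conj_of repr_r3 codes_checked.2.2.2.1 codes_checked.2.2.2.2

attribute [local irreducible] r3B s3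

/-- The permutation of order three as an automorphism. -/
noncomputable def p3 : ↥Co0 := permHom ⟨r3B, mem_r3B⟩

/-- The word of the permutation of order three. -/
def p3W : List Step := [some (e3i, 0)]

theorem p3W_ok : wordOK p3W = true := by decide +kernel

theorem el_p3W : el p3W = p3 := word_perm (σ := ⟨r3B, mem_r3B⟩) p3W_ok repr_r3_inv

theorem order_p3 : orderOf p3 = 3 := by
  rw [p3, orderOf_injective permHom permHom_injective, ← Subgroup.orderOf_coe]
  exact order_3B

theorem p3_pow_three : p3 ^ 3 = 1 := by rw [← order_p3, pow_orderOf_eq_one]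

theorem p3_ne : p3 ≠ 1 := fun h => by
  have := order_p3
  rw [h, orderOf_one] at this
  norm_num at this

theorem p3_eq : ∃ τ : ↥M24, τ.1 = r3B ∧ p3 = permHom τ := ⟨⟨r3B, mem_r3B⟩, rfl, rfl⟩

theorem p3_apply (v : ↥leechLattice) (i : GolayPt) :
    ((p3 • v : ↥leechLattice) : GolayPt → ℤ) (r3B i) = (v : GolayPt → ℤ) i :=
  perm_apply' ⟨r3B, mem_r3B⟩ r3B rfl p3 rfl v i

theorem p3_ax : Cg (p3 • ax none) (ax none) := by
  have h : p3 ∈ modStab (ax none) := by
    rw [modStab_ax]; exact monoAut_keeps mem_r3B CW_empty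
  exact h

/-- An automorphism inducing the square. -/
theorem exists_square : ∃ g : ↥Co0, g * p3 * g⁻¹ = p3 ^ 2 := by
  obtain ⟨τ, hτ, hp⟩ := p3_eq
  refine ⟨permHom ⟨s3, mem_s3⟩, ?_⟩
  rw [hp, ← map_inv, ← map_mul, ← map_mul, ← map_pow]
  refine congrArg _ (Subtype.ext ?_)
  simp only [Subgroup.coe_mul, Subgroup.coe_inv, SubgroupClass.coe_pow, hτ]
  exact square_conj

/-- Elements commuting with the permutation of order three modulo the centre commute with it. -/
theorem exact_rel {g q : ↥Co0} (hq : orderOf q = 3)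
    (h : (QuotientGroup.mk (g * p3 * g⁻¹) : Spor.Co1) = QuotientGroup.mk q) : g * p3 * g⁻¹ = q := by
  rcases center_eq (QuotientGroup.eq.1 h) with e | e
  · exact (inv_mul_eq_one.mp e)
  · exfalso
    rw [inv_mul_eq_iff_eq_mul] at e
    have h5 : (g * p3 * g⁻¹) ^ 3 = 1 := by
      rw [conj_pow, p3_pow_three, mul_one, mul_inv_cancel]
    have hn : negAut ^ 3 = negAut := by
      have h2 : negAut * negAut = 1 := aut_ext fun v => by
        rw [mul_smul, negAut_apply, negAut_apply, neg_neg, one_smul]
      rw [show (3 : ℕ) = 2 * 1 + 1 from rfl, pow_succ, pow_mul, show negAut ^ 2 = 1 by rw [pow_two, h2], one_pow, one_mul]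
    have hc : Commute (g * p3 * g⁻¹) negAut := (Subgroup.mem_center_iff.mp negAut_central _)
    have := congrArg (fun x => x ^ 3) e
    rw [hc.mul_pow, h5, hn, one_mul, ← hq, pow_orderOf_eq_one] at this
    exact negAut_ne_one this.symm

/-- The word of one of the elements. -/
def gw (k : ℕ) : List Step := gW.getD k []

theorem gw_ok : ((List.range 6).all fun k => wordOK (gw k)) = true := by decide +kernel

theorem gw_checked : ((List.range 6).all fun k => eqB (p3W ++ gw k) (gw k ++ p3W)) = true := by decide +kernel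

/-- One of the elements. -/
noncomputable def gE (k : ℕ) : ↥Co0 := el (gw k)

theorem gE_comm {k : ℕ} (hk : k < 6) : gE k * p3 = p3 * gE k := by
  have hw := List.all_eq_true.mp gw_ok k (List.mem_range.mpr hk)
  have hc := List.all_eq_true.mp gw_checked k (List.mem_range.mpr hk)
  have h := el_eq (wordOK_append _ _ p3W_ok hw) (wordOK_append _ _ hw p3W_ok) hc
  rwa [el_append p3W_ok hw, el_append hw p3W_ok, el_p3W] at h

end CfsgLib.MonsterQ.Thompson
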