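/-
The classes modulo twice the lattice fixed by the permutation of order three: a space of dimension eight
on which the inner product is non-degenerate.
-/
import Cfsg.Agent.Lib.MonsterQ.Thompson.Words
import Cfsg.Agent.Lib.Leech.Pairs

set_option autoImplicit false
set_option maxRecDepth 100000

namespace CfsgLib.MonsterQ.Thompson

open Cfsg CfsgGolay CfsgLeech CfsgLeech.Models CfsgCoTwoOut
open CfsgLib.MonsterQ.Seven (Cg_add Cg_double congB congB_sound axN ip ip_comm ip_add ip_zero ip_cg ip_cg_right)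
open scoped Pointwise

attribute [local irreducible] codeL octadL dodecadL slpCodes r3B

/-- The orbit of a point. -/
def cls (k : ℕ) : ℕ := clsL.getD k 0

/-- The distance from the representative. -/
def stp (k : ℕ) : ℕ := stepL.getD k 0

/-- The representative of an orbit. -/
def rep (j : ℕ) : ℕ := repL.getD j 0

/-- The codes of the powers. -/
def pw3 (n : ℕ) : ℕ := ppow e3B n

theorem orbit_checked : ((List.range 24).all fun k => Nat.blt (cls k) 8 && Nat.blt (stp k) 3 &&
    Nat.beq (papp (pw3 (stp k)) (rep (cls k))) k && Nat.beq (cls (papp e3B k)) (cls k) &&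
    Nat.blt (papp e3B k) 24) = true ∧
    ((List.range 8).all fun j => Nat.blt (rep j) 24 && Nat.beq (cls (rep j)) j && Nat.beq (stp (rep j)) 0) = true := by
  decide +kernel

theorem orbit_facts {k : ℕ} (hk : k < 24) : cls k < 8 ∧ stp k < 3 ∧ papp (pw3 (stp k)) (rep (cls k)) = k ∧
    cls (papp e3B k) = cls k ∧ papp e3B k < 24 := by
  have h := List.all_eq_true.mp orbit_checked.1 k (List.mem_range.mpr hk)
  simp only [Bool.and_eq_true, Nat.blt_eq] at h
  exact ⟨h.1.1.1.1, h.1.1.1.2, Nat.eq_of_beq_eq_true h.1.1.2, Nat.eq_of_beq_eq_true h.1.2, h.2⟩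

theorem rep_facts3 {j : ℕ} (hj : j < 8) : rep j < 24 ∧ cls (rep j) = j ∧ stp (rep j) = 0 := by
  have h := List.all_eq_true.mp orbit_checked.2 j (List.mem_range.mpr hj)
  simp only [Bool.and_eq_true, Nat.blt_eq] at h
  exact ⟨h.1.1, Nat.eq_of_beq_eq_true h.1.2, Nat.eq_of_beq_eq_true h.2⟩

theorem pw3_apply (n : ℕ) {k : ℕ} (hk : k < 24) : (r3B ^ n) (pt k) = pt (papp (pw3 n) k) :=
  (repr_r3.pow n).apply_pt hk

theorem pt_eq_pow {k : ℕ} (hk : k < 24) : pt k = (r3B ^ stp k) (pt (rep (cls k))) := by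
  obtain ⟨h1, -, h3, -⟩ := orbit_facts hk
  rw [pw3_apply _ (rep_facts3 h1).1, h3]

theorem cls_step (i : GolayPt) : cls (idx (r3B i)) = cls (idx i) := by
  rw [← pt_idx i, repr_r3.apply_pt (idx_lt i), idx_pt (orbit_facts (idx_lt i)).2.2.2.2, idx_pt (idx_lt i)]
  exact (orbit_facts (idx_lt i)).2.2.2.1

theorem cls_pow : ∀ (n : ℕ) (i : GolayPt), cls (idx ((r3B ^ n) i)) = cls (idx i)
  | 0, i => by rw [pow_zero]; rfl
  | n + 1, i => by rw [pow_succ', Equiv.Perm.mul_apply, cls_step, cls_pow n i]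

/-- The points of the orbits in a set of orbits. -/
def full (m : ℕ) : ℕ := orBits ((List.range 24).filter fun k => m.testBit (cls k))

/-- The sets of orbits forming code words. -/
def fixF : List ℕ := (List.range 256).filter fun m => inCode (full m)

theorem fixF_checked : fixF.length ≤ 16 ∧ ∀ m ∈ fixF, (∀ j < 4, m.testBit j = false) → m = 0 := by decide +kernel

/-- The orbits in a set. -/
def encC (c : Finset GolayPt) : ℕ := orBits ((List.range 8).filter fun j => decide (pt (rep j) ∈ c))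

theorem encC_bit {c : Finset GolayPt} (hc : ∀ i, r3B i ∈ c ↔ i ∈ c) {k : ℕ} (hk : k < 24) :
    (encC c).testBit (cls k) = true ↔ pt k ∈ c := by
  have hn : ∀ n (i : GolayPt), (r3B ^ n) i ∈ c ↔ i ∈ c := by
    intro n
    induction n with
    | zero => intro i; rw [pow_zero]; rfl
    | succ n ih => intro i; rw [pow_succ', Equiv.Perm.mul_apply, hc, ih]
  rw [show pt k = _ from pt_eq_pow hk, hn]
  simp [encC, testBit_orBits, (orbit_facts hk).1]

theorem encC_mem {c : Finset GolayPt} (hcw : c ∈ CW) (hc : ∀ i, r3B i ∈ c ↔ i ∈ c) : encC c ∈ fixF := by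
  classical
  refine List.mem_filter.mpr ⟨List.mem_range.mpr
    (show encC c < 2 ^ 8 from orBits_lt fun i hi => List.mem_range.mp (List.mem_filter.mp hi).1), ?_⟩
  have hmask : full (encC c) = toMask c := by
    rw [toMask, full]
    refine congrArg orBits (List.filter_congr fun k hk => Bool.eq_iff_iff.mpr ?_)
    rw [encC_bit hc (List.mem_range.mp hk), decide_eq_true_eq]
  obtain ⟨w, hw, rfl⟩ := hcw
  rw [hmask]
  exact inCode_of_mem hw

theorem fixed_CW_card : Nat.card {c : Finset GolayPt // c ∈ CW ∧ ∀ i, (r3B i ∈ c ↔ i ∈ c)} ≤ 16 := by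
  classical
  calc Nat.card {c : Finset GolayPt // c ∈ CW ∧ ∀ i, (r3B i ∈ c ↔ i ∈ c)} ≤ Nat.card ↥fixF.toFinset := by
        refine Nat.card_le_card_of_injective (fun c => ⟨encC c.1, List.mem_toFinset.mpr (encC_mem c.2.1 c.2.2)⟩) ?_
        rintro ⟨c, hcw, hc⟩ ⟨c', hcw', hc'⟩ he
        have he' : encC c = encC c' := congrArg Subtype.val he
        refine Subtype.ext (Finset.ext fun i => ?_)
        rw [← pt_idx i, ← encC_bit hc (idx_lt i), ← encC_bit hc' (idx_lt i), he']
    _ ≤ 16 := by rw [Nat.card_eq_finsetCard]; exact (List.toFinset_card_le _).trans fixF_checked.1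

/-! ### The basis -/


/-- The vectors of the basis. -/
def ev' (j : ℕ) : ↥leechLattice := vecL (eL.getD j 0)

/-- The sum of the chosen vectors of the basis. -/
def sub (m : ℕ) : ↥leechLattice := ((List.range 8).map fun j => cond (m.testBit j) (ev' j) 0).sum

/-- The same, as a function. -/
def subF (m : ℕ) : GolayPt → ℤ := fun i =>
  ((List.range 8).map fun j => cond (m.testBit j) (vecN (eL.getD j 0) i) 0).sum

theorem eL_lat : ((List.range 8).all fun j => inLatB (vecN (eL.getD j 0))) = true := by decide +kernel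

theorem sub_coe (m : ℕ) : ((sub m : ↥leechLattice) : GolayPt → ℤ) = subF m := by
  funext i
  have h : ∀ L : List ℕ, (∀ j ∈ L, inLatB (vecN (eL.getD j 0)) = true) →
      ((((L.map fun j => cond (m.testBit j) (ev' j) 0).sum : ↥leechLattice)) : GolayPt → ℤ) i =
        (L.map fun j => cond (m.testBit j) (vecN (eL.getD j 0) i) 0).sum := by
    intro L
    induction L with
    | nil => intro _; rfl
    | cons a L ih =>
      intro hL
      simp only [List.map_cons, List.sum_cons, AddSubgroup.coe_add, Pi.add_apply]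
      rw [ih fun j hj => hL j (List.mem_cons_of_mem _ hj)]
      cases m.testBit a
      · rfl
      · show ((ev' a : ↥leechLattice) : GolayPt → ℤ) i + _ = _
        rw [ev', vecL_coe (hL a List.mem_cons_self)]
        rfl
  exact h _ fun j hj => List.all_eq_true.mp eL_lat j hj

theorem sub_add (m n : ℕ) : Cg (sub m + sub n) (sub (m ^^^ n)) := by
  have h : ∀ L : List ℕ, Cg ((L.map fun j => cond (m.testBit j) (ev' j) 0).sum +
      (L.map fun j => cond (n.testBit j) (ev' j) 0).sum)
      (L.map fun j => cond ((m ^^^ n).testBit j) (ev' j) 0).sum := by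
    intro L
    induction L with
    | nil => simpa using Cg.refl' (0 : ↥leechLattice)
    | cons a L ih =>
      simp only [List.map_cons, List.sum_cons]
      rw [add_add_add_comm]
      refine Cg_add ?_ ih
      rw [Nat.testBit_xor]
      cases m.testBit a <;> cases n.testBit a <;> simp [Cg.refl', Cg_double]
  exact h _

theorem sub_zero' : sub 0 = 0 :=
  List.sum_eq_zero fun x hx => by
    obtain ⟨j, -, rfl⟩ := List.mem_map.mp hx
    simp

theorem sub_two_pow {j : ℕ} (hj : j < 8) : sub (2 ^ j) = ev' j := by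
  interval_cases j <;> simp [sub, List.range_succ, Nat.testBit, Nat.shiftRight_eq_div_pow]

/-- The classes spanned by the basis. -/
def P : AddSubgroup ↥leechLattice where
  carrier := {x | ∃ m < 256, Cg x (sub m)}
  zero_mem' := ⟨0, by norm_num, by rw [sub_zero']; exact Cg.refl' 0⟩
  add_mem' := by
    rintro a b ⟨m, hm, ha⟩ ⟨n, hn, hb⟩
    exact ⟨m ^^^ n, Nat.xor_lt_two_pow (n := 8) hm hn, (Cg_add ha hb).trans' (sub_add m n)⟩
  neg_mem' := by
    rintro a ⟨m, hm, ha⟩
    exact ⟨m, hm, (Cg.neg_self a).trans' ha⟩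

theorem P_cg {a b : ↥leechLattice} (h : Cg a b) (hb : b ∈ P) : a ∈ P := by
  obtain ⟨m, hm, hb⟩ := hb
  exact ⟨m, hm, h.trans' hb⟩

theorem sub_mem_P {m : ℕ} (hm : m < 256) : sub m ∈ P := ⟨m, hm, Cg.refl' _⟩

theorem ev_mem_P {j : ℕ} (hj : j < 8) : ev' j ∈ P := by
  rw [← sub_two_pow hj]
  exact sub_mem_P ((Nat.pow_lt_pow_right (by norm_num) hj).trans_le (by norm_num))

/-! ### Fixed vectors -/

/-- The vectors generating the fixed vectors. -/
def gl (k : ℕ) : ↥leechLattice := vecL (glC.getD k 0)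

theorem glC_checked : ((List.range 8).all fun k =>
    inLatB (vecN (glC.getD k 0)) && congB (vecN (glC.getD k 0)) (subF (gM.getD k 0)) &&
      Nat.blt (gM.getD k 0) 256) = true := by decide +kernel

theorem gl_mem {k : ℕ} (hk : k < 8) : gl k ∈ P := by
  have h := List.all_eq_true.mp glC_checked k (List.mem_range.mpr hk)
  simp only [Bool.and_eq_true, Nat.blt_eq] at h
  refine ⟨_, h.2, congB_sound ?_⟩
  rw [gl, vecL_coe h.1.1, sub_coe]
  exact h.1.2

theorem fixed_pow {f : GolayPt → ℤ} (hf : ∀ i, f (r3B i) = f i) : ∀ (n : ℕ) (i : GolayPt), f ((r3B ^ n) i) = f i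
  | 0, i => by rw [pow_zero]; rfl
  | n + 1, i => by rw [pow_succ', Equiv.Perm.mul_apply, hf, fixed_pow hf n]

theorem fixed_rep {f : GolayPt → ℤ} (hf : ∀ i, f (r3B i) = f i) {k : ℕ} (hk : k < 24) :
    f (pt k) = f (pt (rep (cls k))) := by
  rw [pt_eq_pow hk, fixed_pow hf]

/-- The values of the generators on the orbits. -/
def glV (k j : ℕ) : ℤ := (papp (glC.getD k 0) (rep j) : ℤ) - 16

theorem gl_table : ((List.range 8).all fun j => (List.range 24).all fun k =>
    Nat.beq (papp (glC.getD j 0) k) (papp (glC.getD j 0) (rep (cls k)))) = true := by decide +kernel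

theorem gl_val {j : ℕ} (hj : j < 8) (k : ℕ) (hk : k < 24) :
    (gl j : GolayPt → ℤ) (pt k) = glV j (cls k) := by
  have h := List.all_eq_true.mp glC_checked j (List.mem_range.mpr hj)
  simp only [Bool.and_eq_true] at h
  rw [gl, vecL_coe h.1.1, glV]
  have hh := List.all_eq_true.mp (List.all_eq_true.mp gl_table j (List.mem_range.mpr hj)) k (List.mem_range.mpr hk)
  rw [← Nat.eq_of_beq_eq_true hh]
  show (papp (glC.getD j 0) (idx (pt k)) : ℤ) - 16 = _
  rw [idx_pt hk]

theorem gl_fixed {j : ℕ} (hj : j < 8) (i : GolayPt) :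
    (gl j : GolayPt → ℤ) (r3B i) = (gl j : GolayPt → ℤ) i := by
  rw [← pt_idx (r3B i), gl_val hj _ (idx_lt _), cls_step, ← gl_val hj _ (idx_lt i), pt_idx]

theorem glV_eq : ∀ k < 8, ∀ j < 8, glV k j = (([[1, 1, 1, 1, 1, 1, 1, 5],
     [0, 2, 0, 0, 2, 2, 0, 2],
     [0, 0, 2, 0, 0, 2, 2, 2],
     [0, 0, 0, 2, 2, 0, 2, 2],
     [0, 0, 0, 0, 4, 0, 0, 4],
     [0, 0, 0, 0, 0, 4, 0, 4],
     [0, 0, 0, 0, 0, 0, 4, 4],
     [0, 0, 0, 0, 0, 0, 0, 8]] : List (List ℤ)).getD k []).getD j 0 := by
  decide +kernel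

/-- The value of a fixed vector on an orbit. -/
def at5 (x : ↥leechLattice) (j : ℕ) : ℤ := (x : GolayPt → ℤ) (pt (rep j))

/-- A fixed vector vanishing on four orbits. -/
theorem four_supp {x : ↥leechLattice} (hfix : ∀ i, (x : GolayPt → ℤ) (r3B i) = (x : GolayPt → ℤ) i)
    (h0 : ∀ j < 4, at5 x j = 0) :
    (∀ j < 8, (4 : ℤ) ∣ at5 x j) ∧ (8 : ℤ) ∣ at5 x 4 + at5 x 5 + at5 x 6 + at5 x 7 := by
  classical
  obtain ⟨m, c, k, hc, hyk, hs⟩ := mem_leech.mp x.2
  have hz : ∀ i, cls (idx i) < 4 → (x : GolayPt → ℤ) i = 0 := fun i hi => by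
    rw [← pt_idx i, fixed_rep hfix (idx_lt i)]; exact h0 _ hi
  have hinv : ∀ i, r3B i ∈ c ↔ i ∈ c := by
    intro i
    have h := hfix i
    rw [hyk, hyk] at h
    simp only [chi] at h
    constructor <;> intro hi <;> by_contra hn <;> simp only [hi, hn, if_true, if_false] at h <;> omega
  have hd : ∀ d ∈ CW, (∀ i, r3B i ∈ d ↔ i ∈ d) → (∀ j < 4, pt (rep j) ∉ d) → d = ∅ := by
    intro d hd hi hj
    have he : encC d = 0 := fixF_checked.2 _ (encC_mem hd hi) fun j hj4 => by
      have h := encC_bit hi (rep_facts3 (show j < 8 by omega)).1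
      rw [(rep_facts3 (show j < 8 by omega)).2.1] at h
      exact Bool.eq_false_iff.mpr fun e => hj j hj4 (h.mp e)
    refine Finset.eq_empty_of_forall_notMem fun i hid => ?_
    have h := (encC_bit hi (idx_lt i)).mpr (by rw [pt_idx]; exact hid)
    rw [he, Nat.zero_testBit] at h
    exact absurd h Bool.false_ne_true
  have hr0 : ∀ j < 4, (x : GolayPt → ℤ) (pt (rep j)) = 0 := fun j hj => h0 j hj
  have hm2 := hr0 0 (by norm_num)
  rw [hyk] at hm2
  have hall : ∀ i, (4 : ℤ) ∣ m + 2 * chi c i := by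
    by_cases h4 : (4 : ℤ) ∣ m
    · have hce : c = ∅ := hd c hc hinv fun j hj hic => by
        have := hr0 j hj
        rw [hyk] at this
        simp only [chi, hic, if_true] at this
        omega
      intro i
      simp only [hce, chi, Finset.notMem_empty, if_false]
      omega
    · have hce : cᶜ = ∅ := hd _ (CW_compl hc) (fun i => by simp only [Finset.mem_compl, hinv i]) fun j hj hic => by
        have := hr0 j hj
        rw [hyk] at this
        simp only [chi, Finset.mem_compl.mp hic, if_false] at this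
        omega
      intro i
      have hic : i ∈ c := by
        have : i ∉ cᶜ := by rw [hce]; exact Finset.notMem_empty i
        simpa using this
      simp only [chi, hic, if_true] at hm2 ⊢
      by_cases hp : pt (rep 0) ∈ c
      · simp only [hp, if_true] at hm2; omega
      · simp only [hp, if_false] at hm2; omega
  have h4 : ∀ i, (4 : ℤ) ∣ (x : GolayPt → ℤ) i := fun i => by have := hall i; rw [hyk]; omega
  refine ⟨fun j _ => h4 _, ?_⟩
  have hsum : ∑ i, (x : GolayPt → ℤ) i = 3 * (at5 x 4 + at5 x 5 + at5 x 6 + at5 x 7) := by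
    rw [sum_range, List.map_congr_left (g := fun k => at5 x (cls k)) fun k hk => fixed_rep hfix (List.mem_range.mp hk)]
    have e : (List.range 24).map cls = clsL := by decide +kernel
    rw [show ((List.range 24).map fun k => at5 x (cls k)) = ((List.range 24).map cls).map (at5 x) by
      rw [List.map_map]; rfl, e]
    simp only [clsL, List.map_cons, List.map_nil, List.sum_cons, List.sum_nil, h0 0 (by norm_num), h0 1 (by norm_num),
      h0 2 (by norm_num), h0 3 (by norm_num)]
    ring
  rw [Finset.sum_congr rfl fun i _ => hyk i] at hsum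
  obtain ⟨t, ht⟩ := CW_card_four hc
  simp only [Finset.sum_add_distrib, ← Finset.mul_sum, sum_chi, Finset.sum_const, Finset.card_univ,
    card_univ_pt, nsmul_eq_mul, Nat.cast_ofNat] at hsum
  omega

theorem at5_sub (x : ↥leechLattice) (a : ℤ) {k j : ℕ} (hk : k < 8) (hj : j < 8) :
    at5 (x - a • gl k) j = at5 x j - a * glV k j := by
  simp only [at5, AddSubgroup.coe_sub, AddSubgroup.coe_zsmul, Pi.sub_apply, Pi.smul_apply, smul_eq_mul,
    gl_val hk _ (rep_facts3 hj).1, (rep_facts3 hj).2.1]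

theorem fixed_sub {x : ↥leechLattice} (hx : ∀ i, (x : GolayPt → ℤ) (r3B i) = (x : GolayPt → ℤ) i) (a : ℤ)
    {k : ℕ} (hk : k < 8) : ∀ i, ((x - a • gl k : ↥leechLattice) : GolayPt → ℤ) (r3B i) =
      ((x - a • gl k : ↥leechLattice) : GolayPt → ℤ) i := fun i => by
  simp only [AddSubgroup.coe_sub, AddSubgroup.coe_zsmul, Pi.sub_apply, Pi.smul_apply]
  rw [hx, gl_fixed hk]

theorem even_of_zero (x : ↥leechLattice) {j : ℕ} (h : at5 x 0 = 0) : (2 : ℤ) ∣ at5 x j := by
  obtain ⟨m, c, k, -, hyk, -⟩ := mem_leech.mp x.2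
  rw [at5, hyk] at h ⊢
  omega

/-- Fixed vectors lie in the span. -/
theorem fixed_mem {x : ↥leechLattice} (hx : ∀ i, (x : GolayPt → ℤ) (r3B i) = (x : GolayPt → ℤ) i) : x ∈ P := by
  classical
  -- clear four orbits
  obtain ⟨a, ha⟩ : ∃ a, a = at5 x 0 := ⟨_, rfl⟩
  obtain ⟨y1, hy1⟩ : ∃ y, y = x - a • gl 0 := ⟨_, rfl⟩
  have f1 := fixed_sub hx a (k := 0) (by norm_num)
  rw [← hy1] at f1
  have y10 : at5 y1 0 = 0 := by
    rw [hy1, at5_sub _ _ (by norm_num) (by norm_num), glV_eq _ (by norm_num) _ (by norm_num), ← ha]; simp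
  obtain ⟨b, hb⟩ := even_of_zero y1 (j := 1) y10
  obtain ⟨c, hc⟩ := even_of_zero y1 (j := 2) y10
  obtain ⟨d, hd⟩ := even_of_zero y1 (j := 3) y10
  obtain ⟨y4, hy4⟩ : ∃ y, y = y1 - b • gl 1 - c • gl 2 - d • gl 3 := ⟨_, rfl⟩
  have f4 := fixed_sub (fixed_sub (fixed_sub f1 b (k := 1) (by norm_num)) c (k := 2) (by norm_num)) d (k := 3) (by norm_num)
  rw [← hy4] at f4
  have v : ∀ j < 8, at5 y4 j = at5 y1 j - b * glV 1 j - c * glV 2 j - d * glV 3 j := fun j hj => by
    rw [hy4, at5_sub _ _ (by norm_num) hj, at5_sub _ _ (by norm_num) hj, at5_sub _ _ (by norm_num) hj]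
  have hzero : ∀ j < 4, at5 y4 j = 0 := by
    intro j hj
    interval_cases j
    · rw [v 0 (by norm_num), y10]; simp [glV_eq]
    · rw [v 1 (by norm_num), hb]; simp [glV_eq, mul_comm]
    · rw [v 2 (by norm_num), hc]; simp [glV_eq, mul_comm]
    · rw [v 3 (by norm_num), hd]; simp [glV_eq, mul_comm]
  obtain ⟨h4, t, ht⟩ := four_supp f4 hzero
  obtain ⟨p, hp⟩ := h4 4 (by norm_num)
  obtain ⟨q, hq⟩ := h4 5 (by norm_num)
  obtain ⟨u, hu⟩ := h4 6 (by norm_num)
  have key : y4 = p • gl 4 + q • gl 5 + u • gl 6 + (t - p - q - u) • gl 7 := by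
    refine Subtype.ext (funext fun i => ?_)
    rw [← pt_idx i, fixed_rep f4 (idx_lt i)]
    have hk := idx_lt i
    obtain ⟨h8, -⟩ := orbit_facts hk
    simp only [AddSubgroup.coe_add, AddSubgroup.coe_zsmul, Pi.add_apply, Pi.smul_apply, smul_eq_mul,
      gl_val (j := 4) (by norm_num) _ hk, gl_val (j := 5) (by norm_num) _ hk, gl_val (j := 6) (by norm_num) _ hk,
      gl_val (j := 7) (by norm_num) _ hk]
    show at5 y4 (cls (idx i)) = _
    generalize cls (idx i) = j at h8
    interval_cases j <;> simp [glV_eq, hzero] <;> omega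
  have hm : y4 ∈ P := by
    rw [key]
    exact add_mem (add_mem (add_mem (zsmul_mem (gl_mem (by norm_num)) _) (zsmul_mem (gl_mem (by norm_num)) _))
      (zsmul_mem (gl_mem (by norm_num)) _)) (zsmul_mem (gl_mem (by norm_num)) _)
  have hx' : x = y4 + d • gl 3 + c • gl 2 + b • gl 1 + a • gl 0 := by rw [hy4, hy1]; abel
  rw [hx']
  exact add_mem (add_mem (add_mem (add_mem hm (zsmul_mem (gl_mem (by norm_num)) _))
    (zsmul_mem (gl_mem (by norm_num)) _)) (zsmul_mem (gl_mem (by norm_num)) _)) (zsmul_mem (gl_mem (by norm_num)) _)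

/-- Classes fixed by the permutation of order three lie in the span. -/
theorem class_mem {x : ↥leechLattice} (hx : Cg (p3 • x) x) : x ∈ P := by
  set s := ∑ n ∈ Finset.range 3, p3 ^ n • x with hs
  have hfix : p3 • s = s := by
    rw [hs]
    refine (map_sum (autHom p3) _ _).trans ?_
    show ∑ n ∈ Finset.range 3, p3 • p3 ^ n • x = _
    simp only [← mul_smul, ← pow_succ']
    have h1 := Finset.sum_range_succ (fun n => p3 ^ n • x) 3
    have h2 := Finset.sum_range_succ' (fun n => p3 ^ n • x) 3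
    rw [p3_pow_three] at h1
    simp only [pow_zero] at h2
    rw [h2] at h1
    exact add_right_cancel h1
  have hsP : s ∈ P := fixed_mem fun i => by
    conv_rhs => rw [← p3_apply s i, hfix]
  have hn : ∀ n, Cg (p3 ^ n • x) x := by
    intro n
    induction n with
    | zero => rw [pow_zero, one_smul]; exact Cg.refl' x
    | succ n ih => rw [pow_succ', mul_smul]; exact (Cg.map' p3 ih).trans' hx
  have h5 : ∀ N, Cg (∑ n ∈ Finset.range N, p3 ^ n • x) (N • x) := by
    intro N
    induction N with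
    | zero => simpa using Cg.refl' (0 : ↥leechLattice)
    | succ N ih => rw [Finset.sum_range_succ, succ_nsmul]; exact Cg_add ih (hn N)
  refine P_cg ?_ hsP
  refine Cg.trans' ?_ (h5 3).symm'
  exact ⟨-((1 : ℕ) • x), by abel⟩

/-! ### Inner products -/

/-- The test of the Gram matrix on a sum. -/
noncomputable def gramB (m : ℕ) : Bool :=
  (List.range 8).any fun j => decide ((dotInt (subF m) (vecN (eL.getD j 0)) / 8) % 2 = 1)

theorem gram_checked₁ : ((List.range 63).all fun m => gramB (1 + m)) = true := by decide +kernel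

theorem gram_checked₂ : ((List.range 64).all fun m => gramB (64 + m)) = true := by decide +kernel

theorem gram_checked₃ : ((List.range 64).all fun m => gramB (128 + m)) = true := by decide +kernel

theorem gram_checked₄ : ((List.range 64).all fun m => gramB (192 + m)) = true := by decide +kernel

theorem sub_ip {m : ℕ} (hm : m < 256) (h0 : m ≠ 0) : ∃ j < 8, ip (sub m) (ev' j) = 1 := by
  have hb : gramB m = true := by
    by_cases h1 : m < 64
    · have := List.all_eq_true.mp gram_checked₁ (m - 1) (List.mem_range.mpr (by omega))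
      rwa [show 1 + (m - 1) = m by omega] at this
    by_cases h2 : m < 128
    · have := List.all_eq_true.mp gram_checked₂ (m - 64) (List.mem_range.mpr (by omega))
      rwa [show 64 + (m - 64) = m by omega] at this
    by_cases h3 : m < 192
    · have := List.all_eq_true.mp gram_checked₃ (m - 128) (List.mem_range.mpr (by omega))
      rwa [show 128 + (m - 128) = m by omega] at this
    · have := List.all_eq_true.mp gram_checked₄ (m - 192) (List.mem_range.mpr (by omega))
      rwa [show 192 + (m - 192) = m by omega] at this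
  obtain ⟨j, hj, h⟩ := List.any_eq_true.mp hb
  refine ⟨j, List.mem_range.mp hj, ?_⟩
  rw [decide_eq_true_eq] at h
  rw [ip, sub_coe, ev', vecL_coe (List.all_eq_true.mp eL_lat j hj)]
  exact (ZMod.intCast_eq_intCast_iff' _ 1 2).mpr (by simpa using h)

theorem sub_inj {m n : ℕ} (hm : m < 256) (hn : n < 256) (h : Cg (sub m) (sub n)) : m = n := by
  by_contra hne
  have h0 : m ^^^ n ≠ 0 := fun e => hne (by
    have := congrArg (· ^^^ n) e
    simpa [Nat.xor_assoc] using this)
  obtain ⟨j, -, hj⟩ := sub_ip (Nat.xor_lt_two_pow (n := 8) hm hn) h0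
  rw [← ip_cg (sub_add m n), ip_add, ip_cg h, (show ∀ a : ZMod 2, a + a = 0 by decide)] at hj
  exact zero_ne_one hj

end CfsgLib.MonsterQ.Thompson
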