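/-
The centraliser of the permutation of order three permutes the one hundred and thirty-five fixed classes of norm 64 and
the nine subspaces they contain.
-/
import Cfsg.Agent.Lib.MonsterQ.Thompson.Fixed

set_option autoImplicit false
set_option maxRecDepth 100000
set_option linter.unusedSectionVars false
set_option linter.style.haveILetI false

namespace CfsgLib.MonsterQ.Thompson

open Cfsg CfsgGolay CfsgLeech CfsgLeech.Models CfsgCoTwoOut
open CfsgLib.MonsterQ.Seven (Cg_add congB congB_sound stab_data mono_ax)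
open scoped Pointwise

attribute [local irreducible] codeL octadL dodecadL slpCodes r3B

/-! ### Classes of norm 64 -/

/-- The mask of a class of norm 64. -/
def aM (k : ℕ) : ℕ := abM.getD k 0

/-- The vector of a class of norm 64. -/
def abV (k : ℕ) : ↥leechLattice := vecL (abL.getD k 0)

/-- The test of a class of norm 64. -/
noncomputable def abB (k : ℕ) : Bool :=
  inLatB (vecN (abL.getD k 0)) && congB (vecN (abL.getD k 0)) (subF (aM k)) &&
    decide (dN (abL.getD k 0) (abL.getD k 0) = 64) && Nat.blt (aM k) 256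

theorem ab_checked₁ : ((List.range 27).all fun k => abB (0 + k)) = true := by decide +kernel

theorem ab_checked₂ : ((List.range 27).all fun k => abB (27 + k)) = true := by decide +kernel

theorem ab_checked₃ : ((List.range 27).all fun k => abB (54 + k)) = true := by decide +kernel

theorem ab_checked₄ : ((List.range 27).all fun k => abB (81 + k)) = true := by decide +kernel

theorem ab_checked₅ : ((List.range 27).all fun k => abB (108 + k)) = true := by decide +kernel

theorem ab_facts {k : ℕ} (hk : k < 135) : (abV k : GolayPt → ℤ) = vecN (abL.getD k 0) ∧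
    Cg (abV k) (sub (aM k)) ∧ sqNorm (abV k : GolayPt → ℤ) = 64 ∧ aM k < 256 := by
  have h : abB k = true := by
    by_cases h0 : k < 27
    · have := List.all_eq_true.mp ab_checked₁ (k - 0) (List.mem_range.mpr (by omega))
      rwa [show 0 + (k - 0) = k by omega] at this
    by_cases h1 : k < 54
    · have := List.all_eq_true.mp ab_checked₂ (k - 27) (List.mem_range.mpr (by omega))
      rwa [show 27 + (k - 27) = k by omega] at this
    by_cases h2 : k < 81
    · have := List.all_eq_true.mp ab_checked₃ (k - 54) (List.mem_range.mpr (by omega))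
      rwa [show 54 + (k - 54) = k by omega] at this
    by_cases h3 : k < 108
    · have := List.all_eq_true.mp ab_checked₄ (k - 81) (List.mem_range.mpr (by omega))
      rwa [show 81 + (k - 81) = k by omega] at this
    have := List.all_eq_true.mp ab_checked₅ (k - 108) (List.mem_range.mpr (by omega))
    rwa [show 108 + (k - 108) = k by omega] at this
  simp only [abB, Bool.and_eq_true, Nat.blt_eq, decide_eq_true_eq] at h
  have hc : (abV k : GolayPt → ℤ) = vecN (abL.getD k 0) := vecL_coe h.1.1.1
  refine ⟨hc, congB_sound ?_, by rw [hc, nN_eq, h.1.2], h.2⟩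
  rw [hc, sub_coe]; exact h.1.1.2

theorem abV_P {k : ℕ} (hk : k < 135) : abV k ∈ P := ⟨_, (ab_facts hk).2.2.2, (ab_facts hk).2.1⟩

/-- Every class is of norm 64 or of odd type. -/
noncomputable def kindB (m : ℕ) : Bool :=
  (abM.any fun x => Nat.beq x m) || decide ((dotInt (subF m) (subF m)) % 32 = 16)

theorem kind_checked₁ : ((List.range 63).all fun m => kindB (1 + m)) = true := by decide +kernel

theorem kind_checked₂ : ((List.range 64).all fun m => kindB (64 + m)) = true := by decide +kernel

theorem kind_checked₃ : ((List.range 64).all fun m => kindB (128 + m)) = true := by decide +kernel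

theorem kind_checked₄ : ((List.range 64).all fun m => kindB (192 + m)) = true := by decide +kernel

theorem norm_mod {v w : ↥leechLattice} (h : Cg v w) :
    sqNorm (v : GolayPt → ℤ) % 32 = sqNorm (w : GolayPt → ℤ) % 32 := by
  obtain ⟨u, hu⟩ := h
  rw [sub_eq_iff_eq_add'] at hu
  have h1 := (sqNorm_sub_add (w : GolayPt → ℤ) ((u + u : ↥leechLattice) : GolayPt → ℤ)).2
  rw [← AddSubgroup.coe_add, ← hu] at h1
  have h2 := (sqNorm_sub_add (u : GolayPt → ℤ) (u : GolayPt → ℤ)).2
  rw [← AddSubgroup.coe_add] at h2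
  have h3 := dot_dvd w (u + u)
  have h4 := dot_dvd u u
  have h5 := sqNorm_dvd (mem_leech.mp u.2)
  have h6 : dotInt (w : GolayPt → ℤ) ((u + u : ↥leechLattice) : GolayPt → ℤ) =
      2 * dotInt (w : GolayPt → ℤ) (u : GolayPt → ℤ) := by
    simp only [dotInt, AddSubgroup.coe_add, Pi.add_apply, Finset.mul_sum]
    exact Finset.sum_congr rfl fun i _ => by ring
  have h7 := dot_dvd w u
  have h8 : dotInt (u : GolayPt → ℤ) (u : GolayPt → ℤ) = sqNorm (u : GolayPt → ℤ) := by
    rw [dotInt, sqNorm]
    exact Finset.sum_congr rfl fun i _ => (sq _).symm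
  omega

/-- A class of norm 64 in the span is one of the one hundred and thirty-five. -/
theorem norm64_mem {m : ℕ} (hm : m < 256) {v : ↥leechLattice} (hv : sqNorm (v : GolayPt → ℤ) = 64)
    (h : Cg v (sub m)) : ∃ k < 135, aM k = m := by
  rcases Nat.eq_zero_or_pos m with rfl | h0
  · exfalso
    rw [sub_zero'] at h
    refine not_cg_zero ?_ (by rw [hv]) h
    rintro rfl
    simp [sqNorm] at hv
  · have hb : kindB m = true := by
      by_cases h1 : m < 64
      · have := List.all_eq_true.mp kind_checked₁ (m - 1) (List.mem_range.mpr (by omega))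
        rwa [show 1 + (m - 1) = m by omega] at this
      by_cases h2 : m < 128
      · have := List.all_eq_true.mp kind_checked₂ (m - 64) (List.mem_range.mpr (by omega))
        rwa [show 64 + (m - 64) = m by omega] at this
      by_cases h3 : m < 192
      · have := List.all_eq_true.mp kind_checked₃ (m - 128) (List.mem_range.mpr (by omega))
        rwa [show 128 + (m - 128) = m by omega] at this
      · have := List.all_eq_true.mp kind_checked₄ (m - 192) (List.mem_range.mpr (by omega))
        rwa [show 192 + (m - 192) = m by omega] at this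
    simp only [kindB, Bool.or_eq_true, List.any_eq_true, decide_eq_true_eq] at hb
    rcases hb with ⟨x, hx, he⟩ | hp
    · obtain ⟨k, hk, rfl⟩ := List.getElem_of_mem hx
      exact ⟨k, hk, by rw [aM, List.getD_eq_getElem _ _ hk]; exact Nat.eq_of_beq_eq_true he⟩
    · exfalso
      have := norm_mod h
      have e : sqNorm ((sub m : ↥leechLattice) : GolayPt → ℤ) = dotInt (subF m) (subF m) := by
        rw [sub_coe, dotInt, sqNorm]
        exact Finset.sum_congr rfl fun i _ => sq _
      rw [hv, e, hp] at this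
      norm_num at this

theorem aV_zero : abV 0 = ax none := by
  have h : vecN (abL.getD 0 0) = Pi.single none 8 := by decide +kernel
  exact Subtype.ext (by rw [(ab_facts (by norm_num)).1, h, ax_coe])

/-! ### The centraliser -/

/-- The centraliser. -/
noncomputable def CC : Subgroup ↥Co0 := Subgroup.centralizer {p3}

theorem mem_CC {g : ↥Co0} : g ∈ CC ↔ g * p3 = p3 * g := Subgroup.mem_centralizer_singleton_iff

theorem gE_mem {k : ℕ} (hk : k < 6) : gE k ∈ CC := mem_CC.mpr (gE_comm hk)

theorem p3_mem : p3 ∈ CC := mem_CC.mpr rfl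

theorem negAut_mem : negAut ∈ CC := mem_CC.mpr (Subgroup.mem_center_iff.mp negAut_central p3).symm

/-- The images of the basis under a word. -/
noncomputable def imgB (w : List Step) (M : List ℕ) : Bool :=
  (List.range 8).all fun j => Nat.blt (M.getD j 0) 256 &&
    runB w (eL.getD j 0) fun d => inLatB (vecN d) && congB (vecN d) (subF (M.getD j 0))

/-- The linear map of a list of images. -/
def lin (M : List ℕ) (m : ℕ) : ℕ := ((List.range 8).map fun j => cond (m.testBit j) (M.getD j 0) 0).foldr (· ^^^ ·) 0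

theorem imgB_sound {w : List Step} (hw : wordOK w = true) {M : List ℕ} (h : imgB w M = true) (m : ℕ) :
    lin M m < 256 ∧ Cg (el w • sub m) (sub (lin M m)) := by
  have hj : ∀ j < 8, M.getD j 0 < 256 ∧ Cg (el w • ev' j) (sub (M.getD j 0)) := by
    intro j hj
    have h1 := List.all_eq_true.mp h j (List.mem_range.mpr hj)
    rw [Bool.and_eq_true, Nat.blt_eq] at h1
    obtain ⟨d, hd, hk⟩ := runB_sound _ _ _ h1.2
    rw [Bool.and_eq_true] at hk
    refine ⟨h1.1, congB_sound ?_⟩
    rw [el_apply hw, ev', vecL_coe (List.all_eq_true.mp eL_lat j (List.mem_range.mpr hj)), hd, sub_coe]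
    exact hk.2
  have h0 : el w • (0 : ↥leechLattice) = 0 := map_zero (autHom (el w))
  have hL : ∀ L : List ℕ, (∀ j ∈ L, j < 8) →
      (L.map fun j => cond (m.testBit j) (M.getD j 0) 0).foldr (· ^^^ ·) 0 < 256 ∧
      Cg (el w • (L.map fun j => cond (m.testBit j) (ev' j) 0).sum)
        (sub ((L.map fun j => cond (m.testBit j) (M.getD j 0) 0).foldr (· ^^^ ·) 0)) := by
    intro L
    induction L with
    | nil => intro _; exact ⟨by norm_num, by simp only [List.map_nil, List.sum_nil, List.foldr_nil]; rw [h0, sub_zero']; exact Cg.refl' 0⟩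
    | cons a L ih =>
      intro hL
      obtain ⟨hlt, hcg⟩ := ih fun j hj => hL j (List.mem_cons_of_mem _ hj)
      simp only [List.map_cons, List.sum_cons, List.foldr_cons]
      rw [aut_add]
      cases m.testBit a
      · refine ⟨by rw [cond_false, Nat.zero_xor]; exact hlt, ?_⟩
        rw [cond_false, cond_false, Nat.zero_xor, h0, zero_add]; exact hcg
      · obtain ⟨ha, hac⟩ := hj a (hL a List.mem_cons_self)
        exact ⟨Nat.xor_lt_two_pow (n := 8) ha hlt, (Cg_add hac hcg).trans' (sub_add _ _)⟩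
  exact hL _ fun j hj => List.mem_range.mp hj

theorem p3_img : imgB p3W [1, 2, 4, 8, 16, 32, 64, 128] = true := by decide +kernel

theorem lin_id : ∀ m < 256, lin [1, 2, 4, 8, 16, 32, 64, 128] m = m := by decide +kernel

theorem p3_fix {x : ↥leechLattice} (h : x ∈ P) : Cg (p3 • x) x := by
  obtain ⟨m, hm, hcg⟩ := h
  have h1 := (imgB_sound p3W_ok p3_img m).2
  rw [el_p3W, lin_id m hm] at h1
  exact ((Cg.map' p3 hcg).trans' h1).trans' hcg.symm'

/-- The centraliser permutes the fixed classes. -/
theorem CC_P {g : ↥Co0} (hg : g ∈ CC) {x : ↥leechLattice} (hx : x ∈ P) : g • x ∈ P := by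
  refine class_mem ?_
  rw [← mul_smul, ← mem_CC.mp hg, mul_smul]
  exact Cg.map' g (p3_fix hx)

theorem CC_move {g : ↥Co0} (hg : g ∈ CC) {k : ℕ} (hk : k < 135) : ∃ j < 135, Cg (g • abV k) (abV j) := by
  obtain ⟨m, hm, hcg⟩ := CC_P hg (abV_P hk)
  have hv : sqNorm ((g • abV k : ↥leechLattice) : GolayPt → ℤ) = 64 :=
    (aut_norm _ _).trans (ab_facts hk).2.2.1
  obtain ⟨j, hj, rfl⟩ := norm64_mem hm hv hcg
  exact ⟨j, hj, hcg.trans' (ab_facts hj).2.1.symm'⟩

theorem CC_stab_card : Nat.card ↥(CC ⊓ crossStab) ≤ 8064 := by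
  classical
  obtain ⟨τ, hτ, hp⟩ := p3_eq
  let T := ↥(centM r3B) × {c : Finset GolayPt // c ∈ CW ∧ ∀ i, (r3B i ∈ c ↔ i ∈ c)}
  have hex : ∀ g : ↥(CC ⊓ crossStab), ∃ t : T, ∀ j, (g : ↥Co0) • ax j =
      if t.1.1 j ∈ t.2.1 then -ax (t.1.1 j) else ax (t.1.1 j) := by
    intro g
    refine stab_data τ r3B hτ g ?_ (Subgroup.mem_inf.mp g.2).2
    rw [← hp]
    exact mem_CC.mp (Subgroup.mem_inf.mp g.2).1
  choose t ht using hex
  calc Nat.card ↥(CC ⊓ crossStab) ≤ Nat.card T := Nat.card_le_card_of_injective t fun a b hab =>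
        Subtype.ext (ext_ax fun j => by rw [ht a, ht b, hab])
    _ ≤ 504 * 16 := by
        rw [Nat.card_prod]; exact Nat.mul_le_mul cent_r3_card fixed_CW_card
    _ = 8064 := rfl

theorem CC_card : Nat.card ↥CC ≤ 1088640 := by
  classical
  haveI := co0_finite
  have hex : ∀ g : ↥CC, ∃ k : Fin 135, Cg ((g : ↥Co0) • abV 0) (abV k) := fun g => by
    obtain ⟨k, hk, h⟩ := CC_move g.2 (show 0 < 135 by norm_num)
    exact ⟨⟨k, hk⟩, h⟩
  choose k hk using hex
  let rp : Fin 135 → ↥CC := fun i => if h : ∃ g, k g = i then h.choose else 1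
  have hrp : ∀ g, k (rp (k g)) = k g := fun g => by
    have h : ∃ g', k g' = k g := ⟨g, rfl⟩
    simp only [rp, dif_pos h]
    exact h.choose_spec
  have hex2 : ∀ g : ↥CC, ((rp (k g))⁻¹ * g : ↥CC).1 ∈ CC ⊓ crossStab := fun g => by
    refine ⟨((rp (k g))⁻¹ * g).2, ?_⟩
    rw [← modStab_ax, ← aV_zero]
    show Cg (((rp (k g) : ↥Co0)⁻¹ * (g : ↥Co0)) • abV 0) (abV 0)
    have h1 := hk (rp (k g))
    rw [hrp] at h1
    have h2 := Cg.map' (rp (k g) : ↥Co0)⁻¹ ((hk g).trans' h1.symm')
    rwa [← mul_smul, inv_smul_smul] at h2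
  calc Nat.card ↥CC ≤ Nat.card (Fin 135 × ↥(CC ⊓ crossStab)) :=
        Nat.card_le_card_of_injective (fun g => (k g, ⟨_, hex2 g⟩)) fun a b hab => by
          simp only [Prod.mk.injEq, Subtype.mk.injEq] at hab
          rw [hab.1] at hab
          exact mul_left_cancel (Subtype.ext hab.2)
    _ ≤ 135 * 8064 := by
        rw [Nat.card_prod, Nat.card_fin]; exact Nat.mul_le_mul_left _ CC_stab_card
    _ = 1088640 := rfl

/-! ### The action on the masks -/

open Classical in
/-- The action on the masks. -/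
noncomputable def act (g : ↥Co0) (m : ℕ) : ℕ :=
  if h : ∃ n < 256, Cg (g • sub m) (sub n) then h.choose else 0

theorem act_spec {g : ↥Co0} (hg : g ∈ CC) {m : ℕ} (hm : m < 256) :
    act g m < 256 ∧ Cg (g • sub m) (sub (act g m)) := by
  have h : ∃ n < 256, Cg (g • sub m) (sub n) := CC_P hg (sub_mem_P hm)
  rw [act, dif_pos h]
  exact h.choose_spec

theorem act_eq {g : ↥Co0} (hg : g ∈ CC) {m n : ℕ} (hm : m < 256) (hn : n < 256) (h : Cg (g • sub m) (sub n)) :
    act g m = n :=
  sub_inj (act_spec hg hm).1 hn ((act_spec hg hm).2.symm'.trans' h)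

theorem act_one {m : ℕ} (hm : m < 256) : act 1 m = m :=
  act_eq CC.one_mem hm hm (by rw [one_smul]; exact Cg.refl' _)

theorem act_mul {g h : ↥Co0} (hg : g ∈ CC) (hh : h ∈ CC) {m : ℕ} (hm : m < 256) :
    act (g * h) m = act g (act h m) := by
  obtain ⟨h1, h2⟩ := act_spec hh hm
  obtain ⟨h3, h4⟩ := act_spec hg h1
  exact act_eq (CC.mul_mem hg hh) hm h3 (by rw [mul_smul]; exact (Cg.map' g h2).trans' h4)

theorem act_xor {g : ↥Co0} (hg : g ∈ CC) {m n : ℕ} (hm : m < 256) (hn : n < 256) :
    act g (m ^^^ n) = act g m ^^^ act g n := by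
  obtain ⟨h1, h2⟩ := act_spec hg hm
  obtain ⟨h3, h4⟩ := act_spec hg hn
  refine act_eq hg (Nat.xor_lt_two_pow (n := 8) hm hn) (Nat.xor_lt_two_pow (n := 8) h1 h3) ?_
  refine ((Cg.map' g (sub_add m n).symm').trans' ?_).trans' (sub_add _ _)
  rw [aut_add]
  exact Cg_add h2 h4

theorem act_inj {g : ↥Co0} (hg : g ∈ CC) {m n : ℕ} (hm : m < 256) (hn : n < 256) (h : act g m = act g n) : m = n := by
  have := congrArg (act g⁻¹) h
  rwa [← act_mul (CC.inv_mem hg) hg hm, ← act_mul (CC.inv_mem hg) hg hn, inv_mul_cancel, act_one hm, act_one hn] at this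

theorem abM_mem {x : ℕ} (hx : x ∈ abM) : ∃ k < 135, aM k = x := by
  obtain ⟨k, hk, rfl⟩ := List.getElem_of_mem hx
  exact ⟨k, hk, List.getD_eq_getElem _ _ hk⟩

theorem aM_mem {k : ℕ} (hk : k < 135) : aM k ∈ abM := by
  rw [aM, List.getD_eq_getElem _ _ (show k < abM.length from hk)]; exact List.getElem_mem _

theorem abM_lt {x : ℕ} (hx : x ∈ abM) : x < 256 := by
  obtain ⟨k, hk, rfl⟩ := abM_mem hx
  exact (ab_facts hk).2.2.2

theorem act_mem {g : ↥Co0} (hg : g ∈ CC) {x : ℕ} (hx : x ∈ abM) : act g x ∈ abM := by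
  obtain ⟨k, hk, rfl⟩ := abM_mem hx
  obtain ⟨j, hj, h⟩ := CC_move hg hk
  rw [act_eq hg (ab_facts hk).2.2.2 (ab_facts hj).2.2.2
    (((Cg.map' g (ab_facts hk).2.1.symm').trans' h).trans' (ab_facts hj).2.1)]
  exact aM_mem hj

theorem act_word {w : List Step} (hw : wordOK w = true) {M : List ℕ} (h : imgB w M = true) (hg : el w ∈ CC)
    {m : ℕ} (hm : m < 256) : act (el w) m = lin M m :=
  act_eq hg hm (imgB_sound hw h m).1 (imgB_sound hw h m).2

/-! ### The nine subspaces -/

/-- The members of one of the subspaces, without zero. -/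
def obS (i : ℕ) : List ℕ := abM.filter fun m => (obL.getD i 0).testBit m

/-- The subspace as a set. -/
def O (i : ℕ) : Finset ℕ := (obS i).toFinset

theorem O_inj : ∀ i < 9, ∀ j < 9, O i = O j → i = j := by decide +kernel

theorem obS_checked : ((List.range 9).all fun i => Nat.beq (obS i).length 15 && decide (obS i).Nodup) = true := by
  decide +kernel

theorem O_facts {i : ℕ} (hi : i < 9) : (O i).card = 15 ∧ ∀ x ∈ O i, x ∈ abM := by
  have h := List.all_eq_true.mp obS_checked i (List.mem_range.mpr hi)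
  simp only [Bool.and_eq_true, decide_eq_true_eq] at h
  exact ⟨by rw [O, List.toFinset_card_of_nodup h.2, Nat.eq_of_beq_eq_true h.1],
    fun x hx => (List.mem_filter.mp (List.mem_toFinset.mp hx)).1⟩

end CfsgLib.MonsterQ.Thompson
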