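/-
The centraliser of the permutation of order three acts on the nine subspaces as the alternating group of
degree nine.
-/
import Cfsg.Agent.Lib.MonsterQ.Thompson.Action
import Mathlib.GroupTheory.SpecificGroups.Alternating.Simple

set_option autoImplicit false
set_option maxRecDepth 100000
set_option linter.unusedSectionVars false
set_option linter.style.haveILetI false

namespace CfsgLib.MonsterQ.Thompson

open Cfsg CfsgGolay CfsgLeech CfsgLeech.Models CfsgCoTwoOut
open scoped Pointwise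

attribute [local irreducible] codeL octadL dodecadL slpCodes r3B

/-- A subgroup containing the three-cycles through two points contains the alternating group. -/
theorem alternating_le {n : ℕ} (H : Subgroup (Equiv.Perm (Fin (n + 2))))
    (h : ∀ k : Fin (n + 2), k ≠ 0 → k ≠ 1 → Equiv.swap 0 k * Equiv.swap 0 1 ∈ H) :
    alternatingGroup (Fin (n + 2)) ≤ H := by
  classical
  have h0 : ∀ k : Fin (n + 2), k ≠ 0 → Equiv.swap 0 k * Equiv.swap 0 1 ∈ H := by
    intro k hk
    by_cases h1 : k = 1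
    · rw [h1, Equiv.swap_mul_self]; exact H.one_mem
    · exact h k hk h1
  have hpair : ∀ i j : Fin (n + 2), i ≠ 0 → j ≠ 0 → Equiv.swap 0 i * Equiv.swap 0 j ∈ H := by
    intro i j hi hj
    have := H.mul_mem (h0 i hi) (H.inv_mem (h0 j hj))
    rwa [mul_inv_rev, Equiv.swap_inv, Equiv.swap_inv, mul_assoc, Equiv.swap_mul_self_mul] at this
  have hs : ∀ a b : Fin (n + 2), a ≠ b → Equiv.swap a b * Equiv.swap 0 1 ∈ H := by
    intro a b hab
    by_cases ha : a = 0
    · rw [ha]; exact h0 b fun e => hab (ha.trans e.symm)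
    by_cases hb : b = 0
    · rw [hb, Equiv.swap_comm]; exact h0 a ha
    have e : Equiv.swap a b = Equiv.swap 0 a * Equiv.swap 0 b * Equiv.swap 0 a := by
      rw [show Equiv.swap 0 a * Equiv.swap 0 b * Equiv.swap 0 a =
        Equiv.swap 0 a * Equiv.swap 0 b * (Equiv.swap 0 a)⁻¹ by rw [Equiv.swap_inv]]
      rw [← Equiv.swap_apply_apply, Equiv.swap_apply_left, Equiv.swap_apply_of_ne_of_ne hb (Ne.symm hab)]
    rw [e, mul_assoc]
    exact H.mul_mem (hpair a b ha hb) (h0 a ha)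
  intro σ hσ
  have key : (Equiv.Perm.sign σ = 1 → σ ∈ H) ∧ (Equiv.Perm.sign σ ≠ 1 → σ * Equiv.swap 0 1 ∈ H) := by
    clear hσ
    induction σ using Equiv.Perm.swap_induction_on' with
    | one => exact ⟨fun _ => H.one_mem, fun h => absurd (map_one _) h⟩
    | mul_swap σ a b hab ih =>
      rw [Equiv.Perm.sign_mul, Equiv.Perm.sign_swap hab]
      rcases Int.units_eq_one_or (Equiv.Perm.sign σ) with e | e
      · refine ⟨fun h => absurd h (by rw [e]; decide), fun _ => ?_⟩
        rw [mul_assoc]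
        exact H.mul_mem (ih.1 e) (hs a b hab)
      · refine ⟨fun _ => ?_, fun h => absurd (show Equiv.Perm.sign σ * -1 = 1 by rw [e]; decide) h⟩
        have := H.mul_mem (ih.2 (by rw [e]; decide)) (H.inv_mem (hs a b hab))
        rwa [mul_inv_rev, Equiv.swap_inv, Equiv.swap_inv, mul_assoc, Equiv.swap_mul_self_mul] at this
  exact key.1 (Equiv.Perm.mem_alternatingGroup.mp hσ)

/-! ### The action on the nine subspaces -/

/-- The element carries the subspaces to subspaces. -/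
def Pres (g : ↥Co0) : Prop := ∀ i : Fin 9, ∃ j : Fin 9, (O i.val).image (act g) = O j.val

theorem image_act_mul {g h : ↥Co0} (hg : g ∈ CC) (hh : h ∈ CC) (i : Fin 9) :
    (O i.val).image (act (g * h)) = ((O i.val).image (act h)).image (act g) := by
  rw [Finset.image_image]
  exact Finset.image_congr fun x hx => act_mul hg hh (abM_lt ((O_facts i.isLt).2 x hx))

theorem pres_mul {g h : ↥Co0} (hg : g ∈ CC) (hh : h ∈ CC) (pg : Pres g) (ph : Pres h) : Pres (g * h) := fun i => by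
  obtain ⟨j, hj⟩ := ph i
  obtain ⟨k, hk⟩ := pg j
  exact ⟨k, by rw [image_act_mul hg hh, hj, hk]⟩

theorem image_act_one (i : Fin 9) : (O i.val).image (act 1) = O i.val :=
  (Finset.image_congr fun x hx => act_one (abM_lt ((O_facts i.isLt).2 x hx))).trans Finset.image_id'

/-- The elements preserving the subspaces. -/
def C0 : Subgroup ↥CC where
  carrier := {g | Pres (g : ↥Co0) ∧ Pres ((g⁻¹ : ↥CC) : ↥Co0)}
  one_mem' := ⟨fun i => ⟨i, image_act_one i⟩, fun i => ⟨i, by rw [inv_one]; exact image_act_one i⟩⟩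
  mul_mem' := fun {a b} ha hb => ⟨pres_mul a.2 b.2 ha.1 hb.1, by
    rw [mul_inv_rev]; exact pres_mul (b⁻¹ : ↥CC).2 (a⁻¹ : ↥CC).2 hb.2 ha.2⟩
  inv_mem' := fun {a} ha => ⟨ha.2, by rw [inv_inv]; exact ha.1⟩

open Classical in
/-- The permutation of the subspaces. -/
noncomputable def fIx (g : ↥Co0) (i : Fin 9) : Fin 9 :=
  if h : ∃ j : Fin 9, (O i.val).image (act g) = O j.val then h.choose else i

theorem fIx_spec {g : ↥Co0} (hg : Pres g) (i : Fin 9) : (O i.val).image (act g) = O (fIx g i).val := by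
  rw [fIx, dif_pos (hg i)]
  exact (hg i).choose_spec

theorem fIx_eq {g : ↥Co0} (hg : Pres g) {i j : Fin 9} (h : (O i.val).image (act g) = O j.val) : fIx g i = j :=
  Fin.ext (O_inj _ (fIx g i).isLt _ j.isLt ((fIx_spec hg i).symm.trans h))

theorem fIx_comp {a b : ↥CC} (ha : a ∈ C0) (hb : b ∈ C0) (i : Fin 9) :
    fIx ((a * b : ↥CC) : ↥Co0) i = fIx (a : ↥Co0) (fIx (b : ↥Co0) i) :=
  fIx_eq (C0.mul_mem ha hb).1 (by rw [Subgroup.coe_mul, image_act_mul a.2 b.2, fIx_spec hb.1, fIx_spec ha.1])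

theorem fIx_one (i : Fin 9) : fIx ((1 : ↥CC) : ↥Co0) i = i := fIx_eq C0.one_mem.1 (image_act_one i)

/-- The action. -/
noncomputable def phi : ↥C0 →* Equiv.Perm (Fin 9) :=
  MonoidHom.mk' (fun g => ⟨fIx ((g : ↥CC) : ↥Co0), fIx (((g⁻¹ : ↥C0) : ↥CC) : ↥Co0),
      fun i => by rw [← fIx_comp (g⁻¹ : ↥C0).2 g.2, ← Subgroup.coe_mul, inv_mul_cancel, Subgroup.coe_one]; exact fIx_one i,
      fun i => by rw [← fIx_comp g.2 (g⁻¹ : ↥C0).2, ← Subgroup.coe_mul, mul_inv_cancel, Subgroup.coe_one]; exact fIx_one i⟩)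
    fun g h => Equiv.ext fun i => by
      rw [Equiv.Perm.mul_apply]
      exact fIx_comp g.2 h.2 i

theorem phi_apply (g : ↥C0) (i : Fin 9) : phi g i = fIx ((g : ↥CC) : ↥Co0) i := rfl

theorem triv_mem {g : ↥CC} (h : ∀ m < 256, Cg ((g : ↥Co0) • sub m) (sub m)) :
    ∃ hg : g ∈ C0, phi ⟨g, hg⟩ = 1 := by
  have him : ∀ (u : ↥CC), (∀ m < 256, Cg ((u : ↥Co0) • sub m) (sub m)) → ∀ i : Fin 9,
      (O i.val).image (act (u : ↥Co0)) = O i.val := fun u hu i => by
    refine (Finset.image_congr fun x hx => ?_).trans Finset.image_id'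
    exact act_eq u.2 (abM_lt ((O_facts i.isLt).2 x hx)) (abM_lt ((O_facts i.isLt).2 x hx))
      (hu x (abM_lt ((O_facts i.isLt).2 x hx)))
  have h' : ∀ m < 256, Cg (((g⁻¹ : ↥CC) : ↥Co0) • sub m) (sub m) := fun m hm => by
    have := Cg.map' ((g : ↥Co0)⁻¹) (h m hm)
    rw [inv_smul_smul] at this
    exact this.symm'
  refine ⟨⟨fun i => ⟨i, him g h i⟩, fun i => ⟨i, him g⁻¹ h' i⟩⟩, Equiv.ext fun i => ?_⟩
  exact fIx_eq (fun i => ⟨i, him g h i⟩) (him g h i)

/-! ### The generators -/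

/-- The images of the basis under one of the elements. -/
def gM' (k : ℕ) : List ℕ := gImg.getD k []

/-- The image of a subspace. -/
def gQ (k i : ℕ) : ℕ := (gPerm.getD k []).getD i 0

/-- The test of one of the elements. -/
noncomputable def genB (k : ℕ) : Bool :=
  imgB (gw k) (gM' k) && (List.range 9).all fun i => Nat.blt (gQ k i) 9 &&
    ((List.range 9).any fun a => Nat.beq (gQ k a) i) &&
    (obS i).all fun x => (obL.getD (gQ k i) 0).testBit (lin (gM' k) x)

theorem gen_checked : ((List.range 6).all fun k => genB k) = true := by decide +kernel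

/-- One of the elements. -/
noncomputable def gC (k : Fin 6) : ↥CC := ⟨gE k.val, gE_mem k.isLt⟩

theorem gen_image (k : Fin 6) (i : Fin 9) : gQ k.val i.val < 9 ∧ (∃ a : Fin 9, gQ k.val a.val = i.val) ∧
    (O i.val).image (act (gC k : ↥Co0)) = O (gQ k.val i.val) := by
  classical
  have h := List.all_eq_true.mp gen_checked k.val (List.mem_range.mpr k.isLt)
  simp only [genB, Bool.and_eq_true, List.all_eq_true, List.any_eq_true, List.mem_range, Nat.blt_eq] at h
  obtain ⟨⟨hn, a, ha, hae⟩, hall⟩ := h.2 i.val i.isLt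
  refine ⟨hn, ⟨⟨a, ha⟩, Nat.eq_of_beq_eq_true hae⟩, ?_⟩
  have hw := List.all_eq_true.mp gw_ok k.val (List.mem_range.mpr k.isLt)
  obtain ⟨hc, hS⟩ := O_facts i.isLt
  refine Finset.eq_of_subset_of_card_le (fun y hy => ?_) ?_
  · obtain ⟨x, hx, rfl⟩ := Finset.mem_image.mp hy
    refine List.mem_toFinset.mpr (List.mem_filter.mpr ⟨act_mem (gC k).2 (hS x hx), ?_⟩)
    show (obL.getD (gQ k.val i.val) 0).testBit (act (el (gw k.val)) x) = true
    rw [act_word hw h.1 (gC k).2 (abM_lt (hS x hx))]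
    exact hall x (List.mem_toFinset.mp hx)
  · rw [(O_facts hn).1, Finset.card_image_of_injOn, hc]
    exact fun a ha b hb e => act_inj (gC k).2 (abM_lt (hS a ha)) (abM_lt (hS b hb)) e

theorem gC_mem (k : Fin 6) : gC k ∈ C0 := by
  refine ⟨fun i => ⟨⟨_, (gen_image k i).1⟩, (gen_image k i).2.2⟩, fun i => ?_⟩
  obtain ⟨a, ha⟩ := (gen_image k i).2.1
  refine ⟨a, ?_⟩
  rw [← ha, ← (gen_image k a).2.2, Finset.image_image]
  refine (Finset.image_congr fun x hx => ?_).trans Finset.image_id'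
  have hx' := abM_lt ((O_facts a.isLt).2 x hx)
  show act ((gC k)⁻¹ : ↥CC).1 (act (gC k : ↥Co0) x) = x
  rw [← act_mul ((gC k)⁻¹ : ↥CC).2 (gC k).2 hx', ← Subgroup.coe_mul, inv_mul_cancel, Subgroup.coe_one, act_one hx']

/-- The permutation of one of the elements. -/
def gP (k : ℕ) (i : Fin 9) : Fin 9 := Fin.ofNat 9 (gQ k i.val)

theorem phi_gC (k : Fin 6) (i : Fin 9) : phi ⟨gC k, gC_mem k⟩ i = gP k.val i := by
  rw [phi_apply]
  refine fIx_eq (gC_mem k).1 ?_
  rw [gP, Fin.val_ofNat, Nat.mod_eq_of_lt (gen_image k i).1]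
  exact (gen_image k i).2.2

/-- A product of the elements. -/
noncomputable def gProd (L : List ℕ) : ↥C0 :=
  (L.map fun k => (⟨gC (Fin.ofNat 6 k), gC_mem _⟩ : ↥C0)).prod

theorem phi_gProd : ∀ (L : List ℕ) (i : Fin 9),
    phi (gProd L) i = L.foldr (fun k q => gP (Fin.ofNat 6 k).val q) i
  | [], i => by simp [gProd]
  | k :: L, i => by
    have e : gProd (k :: L) = (⟨gC (Fin.ofNat 6 k), gC_mem _⟩ : ↥C0) * gProd L := by simp [gProd]
    rw [e, map_mul, Equiv.Perm.mul_apply, phi_gProd L i, phi_gC, List.foldr_cons]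

theorem targets : ∀ t : Fin 7, ∀ i : Fin 9,
    (tW.getD t.val []).foldr (fun k q => gP (Fin.ofNat 6 k).val q) i =
      (Equiv.swap (0 : Fin 9) (Fin.ofNat 9 (t.val + 2)) * Equiv.swap 0 1 : Equiv.Perm (Fin 9)) i := by
  decide +kernel

theorem alt_le_range : alternatingGroup (Fin 9) ≤ phi.range := by
  refine alternating_le (n := 7) phi.range fun k h0 h1 => ?_
  have hk : 2 ≤ k.val := by
    have a : k.val ≠ 0 := fun e => h0 (Fin.ext e)
    have b : k.val ≠ 1 := fun e => h1 (Fin.ext e)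
    omega
  refine ⟨gProd (tW.getD (k.val - 2) []), Equiv.ext fun i => ?_⟩
  rw [phi_gProd, targets ⟨k.val - 2, by omega⟩ i]
  rw [show Fin.ofNat 9 (k.val - 2 + 2) = k from Fin.ext (by rw [Fin.val_ofNat]; omega)]

theorem card_alt : Nat.card ↥(alternatingGroup (Fin 9)) = 181440 := by
  rw [nat_card_alternatingGroup]
  simp [Nat.card_eq_fintype_card, Nat.factorial]

theorem phi_facts : C0 = ⊤ ∧ phi.range = alternatingGroup (Fin 9) ∧
    phi.ker = ((Subgroup.zpowers p3 ⊔ Subgroup.center ↥Co0).subgroupOf CC).subgroupOf C0 := by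
  classical
  haveI := co0_finite
  set K := (Subgroup.zpowers p3 ⊔ Subgroup.center ↥Co0).subgroupOf CC with hK
  have hKC : Subgroup.zpowers p3 ⊔ Subgroup.center ↥Co0 ≤ CC :=
    sup_le (Subgroup.zpowers_le.mpr p3_mem) fun g hg => mem_CC.mpr (Subgroup.mem_center_iff.mp hg p3).symm
  let Z : Subgroup ↥CC := phi.ker.map C0.subtype
  have hZ : ∀ g : ↥CC, (∀ m < 256, Cg ((g : ↥Co0) • sub m) (sub m)) → g ∈ Z := fun g hg => by
    obtain ⟨h1, h2⟩ := triv_mem hg
    exact ⟨⟨g, h1⟩, h2, rfl⟩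
  have hle : K ≤ Z := by
    rw [hK, Subgroup.subgroupOf_sup (Subgroup.zpowers_le.mpr p3_mem) fun g hg => mem_CC.mpr (Subgroup.mem_center_iff.mp hg p3).symm,
      sup_le_iff]
    constructor
    · intro g hg
      obtain ⟨n, hn⟩ := Subgroup.mem_zpowers_iff.mp hg
      have hp : (⟨p3, p3_mem⟩ : ↥CC) ∈ Z := hZ _ fun m hm => p3_fix (sub_mem_P hm)
      have : g = (⟨p3, p3_mem⟩ : ↥CC) ^ n := Subtype.ext (by rw [SubgroupClass.coe_zpow]; exact hn.symm)
      rw [this]; exact zpow_mem hp n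
    · intro g hg
      refine hZ g fun m _ => ?_
      rcases center_eq hg with e | e
      · rw [Subgroup.subtype_apply] at e
        rw [e, one_smul]; exact Cg.refl' _
      · rw [Subgroup.subtype_apply] at e
        rw [e]
        refine Cg.symm' ⟨sub m, Subtype.ext ?_⟩
        rw [AddSubgroup.coe_sub, negAut_apply, sub_neg_eq_add]; rfl
  have hKC0 : K ≤ C0 := hle.trans (Subgroup.map_subtype_le _)
  have hle' : K.subgroupOf C0 ≤ phi.ker := fun g hg => by
    obtain ⟨u, hu, he⟩ := hle hg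
    have : u = g := Subtype.ext he
    exact this ▸ hu
  have h6 : 6 ≤ Nat.card ↥(K.subgroupOf C0) := by
    rw [Nat.card_congr (Subgroup.subgroupOfEquivOfLe hKC0).toEquiv,
      Nat.card_congr (Subgroup.subgroupOfEquivOfLe hKC).toEquiv]
    have h3 : 3 ∣ Nat.card ↥(Subgroup.zpowers p3 ⊔ Subgroup.center ↥Co0) := by
      have := Subgroup.card_dvd_of_le (le_sup_left : Subgroup.zpowers p3 ≤ Subgroup.zpowers p3 ⊔ Subgroup.center ↥Co0)
      rwa [Nat.card_zpowers, order_p3] at this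
    have h2 : 2 ∣ Nat.card ↥(Subgroup.zpowers p3 ⊔ Subgroup.center ↥Co0) := by
      have := Subgroup.card_dvd_of_le (le_sup_right : Subgroup.center ↥Co0 ≤ Subgroup.zpowers p3 ⊔ Subgroup.center ↥Co0)
      rwa [center_card] at this
    exact Nat.le_of_dvd Nat.card_pos (Nat.Coprime.mul_dvd_of_dvd_of_dvd (show Nat.Coprime 2 3 by norm_num) h2 h3)
  have hidx := phi.ker.card_mul_index
  rw [Subgroup.index_ker] at hidx
  have h1 := Subgroup.card_le_of_le hle'
  have h2 := CC_card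
  have h4 := Subgroup.card_le_of_le alt_le_range
  rw [card_alt] at h4
  have h5 : Nat.card ↥C0 ≤ Nat.card ↥CC := Subgroup.card_le_card_group C0
  have hr : Nat.card ↥phi.range ≤ 181440 := by nlinarith
  have hk : Nat.card ↥phi.ker ≤ 6 := by nlinarith
  have hc : Nat.card ↥CC ≤ Nat.card ↥C0 := by nlinarith
  exact ⟨Subgroup.eq_top_of_card_eq C0 (le_antisymm h5 hc),
    (Subgroup.eq_of_le_of_card_ge alt_le_range (by rw [card_alt]; exact hr)).symm,
    (Subgroup.eq_of_le_of_card_ge hle' (hk.trans h6)).symm⟩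

/-- The representation on the whole centraliser. -/
noncomputable def psi : ↥CC →* ↥(alternatingGroup (Fin 9)) :=
  MonoidHom.mk' (fun g => ⟨phi ⟨g, phi_facts.1.symm ▸ Subgroup.mem_top g⟩,
      phi_facts.2.1.le (MonoidHom.mem_range.mpr ⟨_, rfl⟩)⟩)
    fun g h => Subtype.ext (by
      rw [Subgroup.coe_mul, ← map_mul]
      rfl)

theorem psi_surjective : Function.Surjective psi := fun u => by
  obtain ⟨g, hg⟩ := MonoidHom.mem_range.mp (phi_facts.2.1.symm ▸ u.2 : (u : Equiv.Perm (Fin 9)) ∈ phi.range)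
  exact ⟨g.1, Subtype.ext hg⟩

theorem psi_ker : psi.ker = (Subgroup.zpowers p3 ⊔ Subgroup.center ↥Co0).subgroupOf CC := by
  ext g
  have hg : g ∈ C0 := phi_facts.1.symm ▸ Subgroup.mem_top g
  have h : g ∈ psi.ker ↔ (⟨g, hg⟩ : ↥C0) ∈ phi.ker := by
    rw [MonoidHom.mem_ker, MonoidHom.mem_ker, Subtype.ext_iff]; rfl
  rw [h, phi_facts.2.2]
  rfl

theorem psi_triv {g : ↥CC} (h : ∀ m < 256, Cg ((g : ↥Co0) • sub m) (sub m)) : psi g = 1 := by
  obtain ⟨hg, he⟩ := triv_mem h
  exact Subtype.ext he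

end CfsgLib.MonsterQ.Thompson
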