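/-
Groups of Monster type: an element of order three centralising `z` and a conjugate of `z` in `Q` is either
central in a Sylow 3-subgroup of the joint centraliser or conjugate to the lift of a fixed-point-free
permutation.
-/
import Cfsg.Agent.Lib.MonsterQ.Main
import Cfsg.Agent.Lib.MonsterQ.Thompson.Perm
import Cfsg.Agent.Lib.MonsterQ.Seven.Setup
import Cfsg.Agent.Lib.Leech.OutCo1Lift

set_option autoImplicit false
set_option maxRecDepth 100000
set_option linter.style.haveILetI false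
set_option linter.unusedSectionVars false

namespace CfsgLib.MonsterQ.Thompson

open Cfsg CfsgGolay CfsgLeech CfsgLib.ExtraTwo
open CfsgLeech.Out1 (NI NI_eq NI_card)
open scoped Pointwise

attribute [local irreducible] codeL octadL dodecadL slpCodes r3B
attribute [local instance] CfsgLib.MonsterQ.Seven.co1_fin

/-- A subgroup of order 27 of `L` centralising and containing the element. -/
def Central3 {Γ : Type*} [Group Γ] (L : Subgroup Γ) (y : Γ) : Prop :=
  ∃ P : Subgroup Γ, P ≤ L ∧ Nat.card ↥P = 27 ∧ y ∈ P ∧ ∀ p ∈ P, p * y = y * p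

theorem fact_pow_two {k : ℕ} {m : ℕ} (hm : m ≠ 0) : (2 ^ k * m).factorization 3 = m.factorization 3 := by
  rw [Nat.factorization_mul (by positivity) hm, Finsupp.add_apply, Nat.factorization_eq_zero_of_not_dvd, zero_add]
  intro h
  have := (show Nat.Prime 3 by norm_num).dvd_of_dvd_pow h
  norm_num at this

theorem eq_one_of_two_three {Γ : Type*} [Group Γ] [Finite Γ] (K : Subgroup Γ) {j k : ℕ} (hK : Nat.card ↥K = 2 ^ k)
    {x : Γ} (hx : x ∈ K) (h3 : x ^ 3 ^ j = 1) : x = 1 := by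
  have h1 : orderOf x ∣ 2 ^ k := by
    have := orderOf_dvd_natCard (⟨x, hx⟩ : ↥K)
    rw [hK, Subgroup.orderOf_mk] at this
    exact this
  have h2 : Nat.Coprime (2 ^ k) (3 ^ j) := Nat.Coprime.pow _ _ (by norm_num)
  exact orderOf_eq_one_iff.mp (Nat.dvd_one.mp (h2 ▸ Nat.dvd_gcd h1 (orderOf_dvd_of_pow_eq_one h3)))

theorem card_comap_ker {A B : Type*} [Group A] [Group B] [Finite A] [Finite B] (f : A →* B)
    (hs : Function.Surjective f) (T : Subgroup B) : Nat.card ↥(T.comap f) = Nat.card ↥T * Nat.card ↥f.ker := by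
  have h1 := (T.comap f).card_mul_index
  have h2 := T.card_mul_index
  have h3 := f.ker.card_mul_index
  rw [Subgroup.index_comap_of_surjective T hs] at h1
  rw [Subgroup.index_ker, MonoidHom.range_eq_top.mpr hs, Subgroup.card_top] at h3
  have hpos : 0 < T.index := Nat.pos_of_ne_zero Subgroup.index_ne_zero_of_finite
  have : Nat.card ↥(T.comap f) * T.index = Nat.card ↥T * Nat.card ↥f.ker * T.index := by
    rw [h1, ← h3, ← h2]; ring
  exact Nat.eq_of_mul_eq_mul_right hpos this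

/-- Subgroups of order three are conjugate when three divides the order once. -/
theorem three_conj {Γ : Type*} [Group Γ] [Finite Γ] (H A B : Subgroup Γ) (hA : A ≤ H) (hB : B ≤ H)
    (cA : Nat.card ↥A = 3) (cB : Nat.card ↥B = 3) (hH : (Nat.card ↥H).factorization 3 = 1) :
    ∃ h ∈ H, ∀ x ∈ A, h * x * h⁻¹ ∈ B := by
  haveI : Fact (Nat.Prime 3) := ⟨by norm_num⟩
  have ca : Nat.card ↥(A.subgroupOf H) = 3 ^ (Nat.card ↥H).factorization 3 := by
    rw [Nat.card_congr (Subgroup.subgroupOfEquivOfLe hA).toEquiv, cA, hH, pow_one]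
  have cb : Nat.card ↥(B.subgroupOf H) = 3 ^ (Nat.card ↥H).factorization 3 := by
    rw [Nat.card_congr (Subgroup.subgroupOfEquivOfLe hB).toEquiv, cB, hH, pow_one]
  obtain ⟨h, hh⟩ := MulAction.exists_smul_eq ↥H (Sylow.ofCard (A.subgroupOf H) ca) (Sylow.ofCard (B.subgroupOf H) cb)
  refine ⟨h, h.2, fun x hx => ?_⟩
  have hm : h * ⟨x, hA hx⟩ * h⁻¹ ∈ (h • Sylow.ofCard (A.subgroupOf H) ca : Sylow 3 ↥H) :=
    ⟨⟨x, hA hx⟩, hx, rfl⟩
  rw [hh] at hm
  exact hm

/-- Elements of order three with the same image are conjugate when the kernel is a 2-group. -/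
theorem conj_of_same_image {A B : Type*} [Group A] [Group B] [Finite A] (f : A →* B) {k : ℕ}
    (hk : Nat.card ↥f.ker = 2 ^ k) {x y : A} (hx : orderOf x = 3) (hy : orderOf y = 3) (h : f x = f y) :
    ∃ c : A, c * x * c⁻¹ = y := by
  haveI : Fact (Nat.Prime 3) := ⟨by norm_num⟩
  set K := Subgroup.zpowers x ⊔ f.ker with hK
  have hy' : y ∈ K := by
    have hm : x⁻¹ * y ∈ f.ker := by rw [MonoidHom.mem_ker, map_mul, map_inv, h, inv_mul_cancel]
    have := K.mul_mem (Subgroup.mem_sup_left (Subgroup.mem_zpowers x)) (Subgroup.mem_sup_right hm)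
    rwa [mul_inv_cancel_left] at this
  have hd : Disjoint (Subgroup.zpowers x) f.ker := Subgroup.disjoint_def.mpr fun {u} hu hv => by
    refine eq_one_of_two_three f.ker hk hv (j := 1) ?_
    obtain ⟨n, rfl⟩ := hu
    show (x ^ n) ^ 3 ^ 1 = 1
    rw [pow_one, ← zpow_natCast, ← zpow_mul, mul_comm, zpow_mul, zpow_natCast, ← hx, pow_orderOf_eq_one, one_zpow]
  have hKc : Nat.card ↥K = 3 * 2 ^ k := by
    set g := f.comp K.subtype
    have h1 := g.ker.card_mul_index
    have hker : g.ker = f.ker.subgroupOf K := rfl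
    have hfx : orderOf (f x) = 3 := by
      refine orderOf_eq_prime (by rw [← map_pow, ← hx, pow_orderOf_eq_one, map_one]) fun e => ?_
      have := Subgroup.disjoint_def.mp hd (Subgroup.mem_zpowers x) (MonoidHom.mem_ker.mpr e)
      rw [this, orderOf_one] at hx
      norm_num at hx
    rw [hker, Nat.card_congr (Subgroup.subgroupOfEquivOfLe (le_sup_right : f.ker ≤ K)).toEquiv, hk] at h1
    rw [← hker, Subgroup.index_ker, MonoidHom.range_comp, Subgroup.range_subtype, hK, Subgroup.map_sup,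
      MonoidHom.map_zpowers, (Subgroup.map_eq_bot_iff f.ker).mpr le_rfl, sup_bot_eq, Nat.card_zpowers, hfx] at h1
    rw [← h1, mul_comm]
  have hf : (Nat.card ↥K).factorization 3 = 1 := by
    rw [hKc, mul_comm, fact_pow_two (by norm_num), Nat.Prime.factorization_self (by norm_num)]
  obtain ⟨c, hc, hcc⟩ := three_conj K (Subgroup.zpowers x) (Subgroup.zpowers y) le_sup_left
    (Subgroup.zpowers_le.mpr hy') (by rw [Nat.card_zpowers, hx]) (by rw [Nat.card_zpowers, hy]) hf
  obtain ⟨n, hn⟩ := hcc x (Subgroup.mem_zpowers x)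
  refine ⟨c, ?_⟩
  have hn' : y ^ n = c * x * c⁻¹ := hn
  have hfc : f c ∈ Subgroup.zpowers (f x) := by
    have h1 := Subgroup.mem_map_of_mem f hc
    rwa [hK, Subgroup.map_sup, MonoidHom.map_zpowers, (Subgroup.map_eq_bot_iff f.ker).mpr le_rfl, sup_bot_eq] at h1
  have hcomm : f c * f x * (f c)⁻¹ = f y := by
    obtain ⟨m, hm⟩ := hfc
    rw [← hm, ← h, (Commute.zpow_self (f x) m).eq, mul_inv_cancel_right]
  have hdn : y⁻¹ * y ^ n ∈ f.ker := by
    rw [MonoidHom.mem_ker, map_mul, map_inv, hn', map_mul, map_mul, map_inv, hcomm, inv_mul_cancel]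
  have h1 : y⁻¹ * y ^ n = 1 := by
    refine eq_one_of_two_three f.ker hk hdn (j := 1) ?_
    rw [pow_one, (Commute.zpow_self y n).symm.inv_left.mul_pow, inv_pow, ← zpow_natCast (y ^ n), ← zpow_mul, mul_comm,
      zpow_mul, zpow_natCast, ← hy, pow_orderOf_eq_one, inv_one, one_zpow, one_mul]
  rw [← hn', ← inv_mul_eq_one.mp h1]

/-- An element over a central element of a subgroup of order 27 is central in one. -/
theorem lift_central {A B : Type*} [Group A] [Group B] [Finite A] [Finite B] (f : A →* B) (hs : Function.Surjective f)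
    {k : ℕ} (hk : Nat.card ↥f.ker = 2 ^ k) (T : Subgroup B) (hT : Nat.card ↥T = 27) {y : A} (hy : orderOf y = 3)
    (hm : f y ∈ T) (hc : ∀ t ∈ T, t * f y = f y * t) :
    ∃ P : Subgroup A, Nat.card ↥P = 27 ∧ y ∈ P ∧ ∀ p ∈ P, p * y = y * p := by
  haveI : Fact (Nat.Prime 3) := ⟨by norm_num⟩
  set H := T.comap f
  have hyH : (⟨y, hm⟩ : ↥H) ∈ Subgroup.zpowers (⟨y, hm⟩ : ↥H) := Subgroup.mem_zpowers _
  have hz : IsPGroup 3 ↥(Subgroup.zpowers (⟨y, hm⟩ : ↥H)) :=
    IsPGroup.of_card (n := 1) (by rw [Nat.card_zpowers, ← orderOf_injective H.subtype H.subtype_injective]; exact hy.trans (pow_one 3).symm)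
  obtain ⟨S, hS⟩ := hz.exists_le_sylow
  have hSc : Nat.card ↥(S : Subgroup ↥H) = 27 := by
    rw [S.card_eq_multiplicity, card_comap_ker f hs T, hT, hk, mul_comm, fact_pow_two (by norm_num),
      show (27 : ℕ) = 3 ^ 3 by norm_num, (show Nat.Prime 3 by norm_num).factorization_pow, Finsupp.single_eq_same]
  refine ⟨(S : Subgroup ↥H).map H.subtype, ?_, ⟨_, hS hyH, rfl⟩, ?_⟩
  · rw [Subgroup.card_map_of_injective H.subtype_injective, hSc]
  · rintro _ ⟨p, hp, rfl⟩
    show (p : A) * y = y * (p : A)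
    have hd : (p : A) * y * (p : A)⁻¹ * y⁻¹ = 1 := by
      refine eq_one_of_two_three f.ker hk ?_ (j := 3) ?_
      · rw [MonoidHom.mem_ker, map_mul, map_mul, map_mul, map_inv, map_inv, hc _ p.2, mul_inv_cancel_right, mul_inv_cancel]
      · have hmem : p * ⟨y, hm⟩ * p⁻¹ * (⟨y, hm⟩ : ↥H)⁻¹ ∈ (S : Subgroup ↥H) :=
          mul_mem (mul_mem (mul_mem hp (hS hyH)) (inv_mem hp)) (inv_mem (hS hyH))
        have h := pow_card_eq_one' (x := (⟨_, hmem⟩ : ↥(S : Subgroup ↥H)))
        rw [hSc] at h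
        exact congrArg (fun t : ↥(S : Subgroup ↥H) => ((t : ↥H) : A)) h
    exact mul_inv_eq_iff_eq_mul.mp (mul_inv_eq_one.mp hd)

theorem class_split {σ : ↥M24} (ho : orderOf σ = 3) :
    (∃ T : Subgroup ↥M24, Nat.card ↥T = 27 ∧ σ ∈ T ∧ ∀ t ∈ T, t * σ = σ * t) ∨
      ∃ k : ↥M24, k * σ * k⁻¹ = ⟨r3B, mem_r3B⟩ := by
  have ho' : orderOf σ.1 = 3 := by rw [Subgroup.orderOf_coe]; exact ho
  by_cases h6 : (CfsgGolay.fixF σ.1).card = 6
  · left
    obtain ⟨T, w, hTM, hT, hw, hwo, hwf, hwc⟩ := exists_central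
    obtain ⟨k, hk, hke⟩ := class_3A σ.2 ho' (by rw [h6]; norm_num)
    obtain ⟨l, hl, hle⟩ := class_3A (hTM hw) hwo (by rw [hwf]; norm_num)
    obtain ⟨c, hc, hce⟩ : ∃ c ∈ M24, c * w * c⁻¹ = σ.1 := by
      refine ⟨k⁻¹ * l, mul_mem (inv_mem hk) hl, ?_⟩
      rw [mul_inv_rev, inv_inv, show k⁻¹ * l * w * (l⁻¹ * k) = k⁻¹ * (l * w * l⁻¹) * k by group, hle, ← hke]
      group
    refine ⟨(T.subgroupOf M24).map (MulAut.conj (⟨c, hc⟩ : ↥M24)).toMonoidHom, ?_, ⟨⟨w, hTM hw⟩, hw, Subtype.ext hce⟩, ?_⟩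
    · rw [Subgroup.card_map_of_injective (MulAut.conj (⟨c, hc⟩ : ↥M24)).injective,
        Nat.card_congr (Subgroup.subgroupOfEquivOfLe hTM).toEquiv, hT]
    · rintro _ ⟨t, ht, rfl⟩
      refine Subtype.ext ?_
      show c * t.1 * c⁻¹ * σ.1 = σ.1 * (c * t.1 * c⁻¹)
      rw [← hce, show c * t.1 * c⁻¹ * (c * w * c⁻¹) = c * (t.1 * w) * c⁻¹ by group, hwc t.1 ht]
      group
  · right
    obtain ⟨k, hk, hke⟩ := class_3B σ.2 ho' h6
    exact ⟨⟨k, hk⟩, Subtype.ext hke⟩

variable {G : Type*} [Group G] [Finite G] {z : G} {Q : Subgroup (Subgroup.centralizer ({z} : Set G))} [Q.Normal]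
variable (D : Data z Q) {a : Q}

theorem centralizer_map (a : Q) : (Subgroup.centralizer ({(a : Cz z)} : Set (Cz z))).map (Cz z).subtype =
    Subgroup.centralizer ({z, ((a : Cz z) : G)} : Set G) := by
  ext x
  constructor
  · rintro ⟨y, hy, rfl⟩
    rw [Subgroup.mem_centralizer_iff]
    rintro w (rfl | rfl)
    · exact (Subgroup.mem_centralizer_singleton_iff.mp y.2).symm
    · exact (congrArg Subtype.val (Subgroup.mem_centralizer_singleton_iff.mp hy)).symm
  · intro hx
    rw [Subgroup.mem_centralizer_iff] at hx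
    refine ⟨⟨x, Subgroup.mem_centralizer_singleton_iff.mpr (hx z (Or.inl rfl)).symm⟩, ?_, rfl⟩
    exact Subgroup.mem_centralizer_singleton_iff.mpr (Subtype.ext (hx _ (Or.inr rfl)).symm)

/-- An element of order three that is central in no Sylow subgroup goes to the standard one. -/
theorem classify (hv : D.ψ (ax none) = QuotientGroup.mk a) (hnc : a ∉ Subgroup.center ↥Q) {y : Cz z}
    (hy : y * (a : Cz z) = (a : Cz z) * y) (ho : orderOf y = 3)
    (hn : ¬ Central3 (Subgroup.centralizer ({z, ((a : Cz z) : G)} : Set G)) (y : G)) :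
    ∃ h : Cz z, h * (a : Cz z) = (a : Cz z) * h ∧ D.e (QuotientGroup.mk (h * y * h⁻¹)) = QuotientGroup.mk p3 := by
  set La := Subgroup.centralizer ({(a : Cz z)} : Set (Cz z))
  have hmap : La.map (QuotientGroup.mk' Q) = (modImg (ax none)).comap D.e.toMonoidHom := D.map_centralizer hv hnc
  let img : ↥La →* ↥NI := MonoidHom.codRestrict (D.e.toMonoidHom.comp ((QuotientGroup.mk' Q).comp La.subtype)) NI fun u => by
    have : (QuotientGroup.mk' Q) (u : Cz z) ∈ La.map (QuotientGroup.mk' Q) := Subgroup.mem_map_of_mem _ u.2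
    rw [hmap] at this
    rw [NI_eq]
    exact this
  have hsurj : Function.Surjective img := by
    rintro ⟨w, hw⟩
    have hw2 : D.e.symm w ∈ (modImg (ax none)).comap D.e.toMonoidHom := by
      rw [Subgroup.mem_comap, ← NI_eq]
      show D.e (D.e.symm w) ∈ NI
      rw [MulEquiv.apply_symm_apply]; exact hw
    rw [← hmap] at hw2
    obtain ⟨u, hu, hue⟩ := hw2
    exact ⟨⟨u, hu⟩, Subtype.ext ((congrArg D.e hue).trans (D.e.apply_symm_apply w))⟩
  have hLa : Nat.card ↥La = 2 ^ 11 * 244823040 * 2 ^ 24 := by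
    rw [D.card_centralizer hv hnc, modImg_ax_card]
  set f : ↥La →* ↥M24 := CfsgLeech.Out1.perm.comp img
  have hfs : Function.Surjective f := CfsgLeech.Out1.perm_surjective.comp hsurj
  have hfk : Nat.card ↥f.ker = 2 ^ 35 := by
    have h := f.ker.card_mul_index
    rw [Subgroup.index_ker, MonoidHom.range_eq_top.mpr hfs, Subgroup.card_top, hLa, card_M24] at h
    exact Nat.eq_of_mul_eq_mul_right (by norm_num : 0 < 244823040) (h.trans (by ring))
  set yl : ↥La := ⟨y, Subgroup.mem_centralizer_singleton_iff.mpr hy⟩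
  have hyo : orderOf yl = 3 := by rw [← Subgroup.orderOf_coe]; exact ho
  haveI : Fact (Nat.Prime 3) := ⟨by norm_num⟩
  have hfy : orderOf (f yl) = 3 := by
    refine orderOf_eq_prime (by rw [← map_pow, ← hyo, pow_orderOf_eq_one, map_one]) fun h => ?_
    have := eq_one_of_two_three f.ker hfk (MonoidHom.mem_ker.mpr h) (j := 1)
      (by rw [pow_one, ← hyo, pow_orderOf_eq_one])
    rw [this, orderOf_one] at hyo
    norm_num at hyo
  rcases class_split hfy with ⟨T, hT, hyT, hTc⟩ | ⟨k, hk⟩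
  · exfalso
    obtain ⟨P, hP, hyP, hPc⟩ := lift_central f hfs hfk T hT hyo hyT hTc
    refine hn ⟨(P.map La.subtype).map (Cz z).subtype, ?_, ?_, ⟨_, ⟨yl, hyP, rfl⟩, rfl⟩, ?_⟩
    · rw [← centralizer_map a]
      exact Subgroup.map_mono (Subgroup.map_subtype_le P)
    · rw [Subgroup.card_map_of_injective (Cz z).subtype_injective, Subgroup.card_map_of_injective La.subtype_injective, hP]
    · rintro _ ⟨_, ⟨p, hp, rfl⟩, rfl⟩
      exact congrArg (fun t : ↥La => ((t : Cz z) : G)) (hPc p hp)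
  · obtain ⟨hl, hhl⟩ := hfs k
    -- the image and the standard element have the same permutation
    have hp3 : (QuotientGroup.mk p3 : Spor.Co1) ∈ NI := by rw [NI_eq]; exact mem_modImg.2 p3_ax
    have hperm : CfsgLeech.Out1.perm ⟨_, hp3⟩ = ⟨r3B, mem_r3B⟩ := CfsgLeech.Out1.perm_el (c := ∅) (hc := CW_empty) rfl
    have hkc : Nat.card ↥(CfsgLeech.Out1.perm.ker) = 2 ^ 11 := by
      have h := CfsgLeech.Out1.perm.ker.card_mul_index
      rw [Subgroup.index_ker, MonoidHom.range_eq_top.mpr CfsgLeech.Out1.perm_surjective, Subgroup.card_top,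
        NI_card, card_M24] at h
      exact Nat.eq_of_mul_eq_mul_right (by norm_num : 0 < 244823040) h
    haveI : Finite ↥NI := Subtype.finite
    set w : ↥La := hl * yl * hl⁻¹
    have hwo : orderOf (img w) = 3 := by
      refine orderOf_eq_prime ?_ fun h => ?_
      · rw [← map_pow, show w ^ 3 = 1 by rw [conj_pow, ← hyo, pow_orderOf_eq_one, mul_one, mul_inv_cancel], map_one]
      · have h2 : f w = 1 := by rw [show f w = CfsgLeech.Out1.perm (img w) from rfl, h, map_one]
        rw [map_mul, map_mul, map_inv, mul_inv_eq_one, mul_eq_left] at h2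
        rw [h2, orderOf_one] at hfy
        norm_num at hfy
    have hpo : orderOf (⟨_, hp3⟩ : ↥NI) = 3 := by
      refine orderOf_eq_prime ?_ fun h => ?_
      · exact Subtype.ext (by rw [SubgroupClass.coe_pow, ← QuotientGroup.mk_pow, p3_pow_three]; rfl)
      · have h2 : (⟨r3B, mem_r3B⟩ : ↥M24) = 1 := by rw [← hperm, h, map_one]
        have h3 := order_3B
        rw [show r3B = 1 from congrArg Subtype.val h2, orderOf_one] at h3
        norm_num at h3
    obtain ⟨c, hc⟩ := conj_of_same_image CfsgLeech.Out1.perm hkc hwo hpo (by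
      rw [hperm, ← hk, show CfsgLeech.Out1.perm (img w) = f w from rfl, map_mul, map_mul, map_inv, hhl])
    obtain ⟨cl, hcl⟩ := hsurj c
    refine ⟨((cl * hl : ↥La) : Cz z), Subgroup.mem_centralizer_singleton_iff.mp (cl * hl).2, ?_⟩
    rw [← hcl, ← map_inv, ← map_mul, ← map_mul] at hc
    have hc' := congrArg Subtype.val hc
    rw [show cl * w * cl⁻¹ = cl * hl * yl * (cl * hl)⁻¹ by simp only [w]; group] at hc'
    exact hc'

end CfsgLib.MonsterQ.Thompson
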