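/-
Groups of Monster type: an element of order three centralising `z` and a conjugate of `z` in `Q` that is
central in no Sylow 3-subgroup of their centraliser, and its fixed points on `Q`.
-/
import Cfsg.Agent.Lib.MonsterQ.Thompson.Classes

set_option autoImplicit false
set_option maxRecDepth 100000
set_option linter.style.haveILetI false
set_option linter.unusedSectionVars false

namespace CfsgLib.MonsterQ.Thompson

open Cfsg CfsgGolay CfsgLeech CfsgLib.ExtraTwo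
open CfsgLib.MonsterQ.Seven (twist twist_psi twist_e ip ip_cg pow_conj_eq)
open scoped Pointwise commutatorElement

attribute [local irreducible] codeL octadL dodecadL slpCodes r3B
attribute [local instance] CfsgLib.MonsterQ.Seven.co1_fin

theorem fact_three {n m : ℕ} (h : n = 3 * m) (hm : ¬ 3 ∣ m) : n.factorization 3 = 1 := by
  subst h
  have hm0 : m ≠ 0 := fun e => hm (e ▸ dvd_zero 3)
  rw [Nat.factorization_mul (by norm_num) hm0, Finsupp.add_apply, Nat.factorization_eq_zero_of_not_dvd hm,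
    Nat.Prime.factorization_self (by norm_num)]

theorem zpowers_eq_of_three {Γ : Type*} [Group Γ] [Finite Γ] (H : Subgroup Γ) (cH : Nat.card ↥H = 3) {x : Γ}
    (hx : x ∈ H) (h1 : x ≠ 1) : Subgroup.zpowers x = H := by
  haveI : Fact (Nat.Prime 3) := ⟨by norm_num⟩
  refine Subgroup.eq_of_le_of_card_ge (Subgroup.zpowers_le.mpr hx) ?_
  have hd : Nat.card ↥(Subgroup.zpowers x) ∣ 3 := cH ▸ Subgroup.card_dvd_of_le (Subgroup.zpowers_le.mpr hx)
  rcases (Nat.dvd_prime (by norm_num)).mp hd with h | h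
  · exact absurd (by rwa [Nat.card_zpowers, orderOf_eq_one_iff] at h) h1
  · rw [h, cH]

theorem mem_pow {Γ : Type*} [Group Γ] [Finite Γ] {x y : Γ} (hx : x ^ 3 = 1) (hy : y ∈ Subgroup.zpowers x) :
    ∃ i < 3, y = x ^ i := by
  rw [← (isOfFinOrder_of_finite x).mem_powers_iff_mem_zpowers, Submonoid.mem_powers_iff] at hy
  obtain ⟨n, rfl⟩ := hy
  refine ⟨n % 3, Nat.mod_lt _ (by norm_num), ?_⟩
  conv_lhs => rw [← Nat.div_add_mod n 3, pow_add, pow_mul, hx, one_pow, one_mul]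

theorem pow_conj_eq_aux {Γ : Type*} [Group Γ] {x b : Γ} {j : ℕ} (h : x * b * x⁻¹ = b ^ j) (i : ℕ) :
    x * b ^ i * x⁻¹ = b ^ (j * i) := by rw [← conj_pow, h, pow_mul]

variable {G : Type*} [Group G] [Finite G] {z : G} {Q : Subgroup (Subgroup.centralizer ({z} : Set G))} [Q.Normal]

/-- The element of order three and the conjugate it centralises, in standard coordinates. -/
structure Thom (D : Data z Q) where
  a : Q
  β : Cz z
  pow3 : β ^ 3 = 1
  eβ : D.e (QuotientGroup.mk β) = QuotientGroup.mk p3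
  comm : β * (a : Cz z) = (a : Cz z) * β
  vec : D.ψ (ax none) = QuotientGroup.mk a
  nc : ¬ Central3 (Subgroup.centralizer ({z, ((a : Cz z) : G)} : Set G)) (β : G)

theorem ax_norm : sqNorm (ax none : GolayPt → ℤ) = 64 :=
  (eightSet_props (mem_eightSet.mpr ⟨none, 8, Or.inl rfl, rfl⟩)).2

theorem mk_p3_order : orderOf (QuotientGroup.mk p3 : Spor.Co1) = 3 := by
  haveI : Fact (Nat.Prime 3) := ⟨by norm_num⟩
  refine orderOf_eq_prime (by rw [← QuotientGroup.mk_pow, p3_pow_three]; rfl) fun h => ?_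
  rcases center_eq ((QuotientGroup.eq_one_iff _).mp h) with e | e
  · exact p3_ne e
  · have h2 : p3 ^ 2 = 1 := by
      rw [e, pow_two]
      exact aut_ext fun v => by rw [mul_smul, negAut_apply, negAut_apply, neg_neg, one_smul]
    have := orderOf_dvd_of_pow_eq_one h2
    rw [order_p3] at this
    norm_num at this

theorem not_central {L Y : Subgroup G} (hcard : (Nat.card ↥L).factorization 3 = 3) {y : G} (hy : Y = Subgroup.zpowers y)
    (hnc : ∀ P : Sylow 3 ↥L, ¬ Y.subgroupOf L ≤ (Subgroup.center ↥(P : Subgroup ↥L)).map (P : Subgroup ↥L).subtype) :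
    ¬ Central3 L y := by
  rintro ⟨P, hPL, hP, hyP, hPc⟩
  haveI : Fact (Nat.Prime 3) := ⟨by norm_num⟩
  refine hnc (Sylow.ofCard (P.subgroupOf L) (by
    rw [Nat.card_congr (Subgroup.subgroupOfEquivOfLe hPL).toEquiv, hP, hcard]; norm_num)) ?_
  intro u hu
  rw [hy] at hu
  obtain ⟨n, hn⟩ := (Subgroup.mem_subgroupOf.mp hu)
  have huP : u ∈ P.subgroupOf L := by
    rw [Subgroup.mem_subgroupOf]
    exact hn ▸ P.zpow_mem hyP n
  refine ⟨⟨u, huP⟩, Subgroup.mem_center_iff.mpr fun p => Subtype.ext (Subtype.ext ?_), rfl⟩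
  show ((p : ↥L) : G) * (u : G) = (u : G) * ((p : ↥L) : G)
  rw [← hn]
  exact ((show Commute ((p : ↥L) : G) y from hPc _ p.2).zpow_right n).eq

theorem exists_thom (hM : IsOfMonsterType z Q) {s : G}
    (hsQ : ∃ hsc : s ∈ Cz z, (⟨s, hsc⟩ : Cz z) ∈ Q) (hs : IsConj z s) (hs1 : s ≠ z) {Y : Subgroup G}
    (hY : Y ≤ Subgroup.centralizer ({z, s} : Set G)) (hY3 : Nat.card Y = 3)
    (hnc : ∀ P : Sylow 3 ↥(Subgroup.centralizer ({z, s} : Set G)),
      ¬ Y.subgroupOf (Subgroup.centralizer ({z, s} : Set G)) ≤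
        (Subgroup.center ↥(P : Subgroup ↥(Subgroup.centralizer ({z, s} : Set G)))).map
          (P : Subgroup ↥(Subgroup.centralizer ({z, s} : Set G))).subtype) :
    ∃ (D : Data z Q) (S : Thom D), ((S.a : Cz z) : G) = s ∧ Y = Subgroup.zpowers ((S.β : Cz z) : G) := by
  obtain ⟨D⟩ := exists_data hM
  obtain ⟨a, rfl⟩ := exists_elt hsQ
  obtain ⟨v, hn, hv⟩ := D.norm_of_conj hs hs1
  obtain ⟨g₀, hg₀⟩ := shell_transitive (fun _ h h' => eqv64 h h') (ax none) v ax_norm hn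
  set D₁ := twist D g₀
  have hv₁ : D₁.ψ (ax none) = QuotientGroup.mk a := by rw [twist_psi, hg₀]; exact hv
  have hne : a ∉ Subgroup.center ↥Q :=
    D₁.not_center hv₁ (Data.ne_zero_of_norm ax_norm (by norm_num)) (by rw [ax_norm])
  have hf : (Nat.card ↥(Subgroup.centralizer ({z, ((a : Cz z) : G)} : Set G))).factorization 3 = 3 := by
    rw [← centralizer_map a, Subgroup.card_map_of_injective (Cz z).subtype_injective, D₁.card_centralizer hv₁ hne,
      modImg_ax_card, show 2 ^ 11 * 244823040 * 2 ^ 24 = 2 ^ 35 * (3 ^ 3 * 9067520) by norm_num,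
      fact_pow_two (by norm_num)]
    exact CfsgGolay.factorization_eq (by norm_num) rfl (by norm_num)
  obtain ⟨⟨b, hb⟩, hb1⟩ : ∃ b : ↥Y, b ≠ 1 := by
    by_contra h
    push Not at h
    have : Nat.card ↥Y ≤ 1 := Finite.card_le_one_iff_subsingleton.mpr ⟨fun x y => (h x).trans (h y).symm⟩
    omega
  have hYb : Subgroup.zpowers b = Y := zpowers_eq_of_three Y hY3 hb fun e => hb1 (Subtype.ext e)
  have hn3 := not_central hf hYb.symm hnc
  have hb' : b ∈ (Subgroup.centralizer ({(a : Cz z)} : Set (Cz z))).map (Cz z).subtype := by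
    rw [centralizer_map]; exact hY hb
  obtain ⟨β₀, hβc, rfl⟩ := hb'
  have ho : orderOf β₀ = 3 := by
    rw [← orderOf_injective (Cz z).subtype (Cz z).subtype_injective, ← hY3, ← hYb, Nat.card_zpowers]
  obtain ⟨h, hh, hhe⟩ := classify D₁ hv₁ hne (Subgroup.mem_centralizer_singleton_iff.mp hβc) ho hn3
  obtain ⟨m, hm⟩ := QuotientGroup.mk_surjective (D₁.e (QuotientGroup.mk h))
  have hei : (twist D₁ m⁻¹).e (QuotientGroup.mk β₀) = QuotientGroup.mk p3 := by
    rw [twist_e, QuotientGroup.mk_inv, inv_inv, hm, ← hhe, QuotientGroup.mk_mul, QuotientGroup.mk_mul,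
      QuotientGroup.mk_inv, map_mul, map_mul, map_inv]
  have hmm : m ∈ modStab (ax none) := by
    have hmem : (QuotientGroup.mk' Q) h ∈ (Subgroup.centralizer ({(a : Cz z)} : Set (Cz z))).map (QuotientGroup.mk' Q) :=
      Subgroup.mem_map_of_mem _ (Subgroup.mem_centralizer_singleton_iff.mpr hh)
    rw [D₁.map_centralizer hv₁ hne, Subgroup.mem_comap] at hmem
    exact mem_modImg.1 (hm ▸ hmem : (QuotientGroup.mk m : Spor.Co1) ∈ modImg (ax none))
  refine ⟨twist D₁ m⁻¹, ⟨a, β₀, by rw [← ho, pow_orderOf_eq_one], hei, Subgroup.mem_centralizer_singleton_iff.mp hβc, ?_, hn3⟩,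
    rfl, hYb.symm⟩
  rw [twist_psi, ← hv₁, D₁.psi_cg]
  exact (modStab (ax none)).inv_mem hmm

namespace Thom

variable {D : Data z Q} (S : Thom D)

theorem order_β : orderOf S.β = 3 := by
  haveI : Fact (Nat.Prime 3) := ⟨by norm_num⟩
  refine orderOf_eq_prime S.pow3 fun h => ?_
  have he := S.eβ
  rw [h, QuotientGroup.mk_one, map_one, eq_comm] at he
  have h2 := mk_p3_order
  rw [he, orderOf_one] at h2
  norm_num at h2

theorem mk_pow_inj {i j : ℕ} (h : (QuotientGroup.mk (S.β ^ i) : Cz z ⧸ Q) = QuotientGroup.mk (S.β ^ j)) :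
    S.β ^ i = S.β ^ j := by
  have h2 := congrArg D.e h
  rw [QuotientGroup.mk_pow, QuotientGroup.mk_pow, map_pow, map_pow, S.eβ, pow_eq_pow_iff_modEq, mk_p3_order] at h2
  rw [pow_eq_pow_iff_modEq, S.order_β]
  exact h2

theorem q_cop (D : Data z Q) {q : Cz z} (hq : q ∈ Q) (h5 : q ^ 3 = 1) : q = 1 := by
  have h2 : orderOf q ∣ 2 ^ 25 := by
    have := orderOf_dvd_natCard (⟨q, hq⟩ : Q)
    rw [D.card_Q, Subgroup.orderOf_mk] at this
    exact this
  have hg := Nat.dvd_gcd h2 (orderOf_dvd_of_pow_eq_one h5)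
  norm_num at hg
  exact hg

/-- Elements of the centraliser of `z` whose images normalise the group of order three. -/
theorem exists_lift {g : ↥Co0} {j : ℕ} (hg : g * p3 * g⁻¹ = p3 ^ j) :
    ∃ x : Cz z, D.e (QuotientGroup.mk x) = QuotientGroup.mk g ∧ x * S.β * x⁻¹ = S.β ^ j := by
  obtain ⟨y, hy⟩ := D.e.surjective (QuotientGroup.mk g)
  obtain ⟨x₀, rfl⟩ := QuotientGroup.mk_surjective y
  set K := Subgroup.zpowers S.β ⊔ Q
  have hmk : (QuotientGroup.mk (x₀ * S.β * x₀⁻¹) : Cz z ⧸ Q) = QuotientGroup.mk (S.β ^ j) := by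
    apply D.e.injective
    rw [QuotientGroup.mk_mul, QuotientGroup.mk_mul, QuotientGroup.mk_inv, map_mul, map_mul, map_inv, hy, S.eβ,
      QuotientGroup.mk_pow, map_pow, S.eβ, ← QuotientGroup.mk_inv, ← QuotientGroup.mk_mul, ← QuotientGroup.mk_mul, hg,
      QuotientGroup.mk_pow]
  have hym : x₀ * S.β * x₀⁻¹ ∈ K := by
    have h1 : (x₀ * S.β * x₀⁻¹)⁻¹ * S.β ^ j ∈ Q := QuotientGroup.eq.1 hmk
    have h2 := K.mul_mem (Subgroup.mem_sup_left (Subgroup.npow_mem_zpowers S.β j)) (K.inv_mem (Subgroup.mem_sup_right h1))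
    rwa [mul_inv_rev, inv_inv, mul_inv_cancel_left] at h2
  have hord : orderOf (x₀ * S.β * x₀⁻¹) = 3 := by
    rw [show x₀ * S.β * x₀⁻¹ = MulAut.conj x₀ S.β from rfl, MulEquiv.orderOf_eq, S.order_β]
  have hK : (Nat.card ↥K).factorization 3 = 1 := by
    have h := card_map_mk_mul Q K
    have e : K.map (QuotientGroup.mk' Q) = Subgroup.zpowers (QuotientGroup.mk' Q S.β) := by
      rw [Subgroup.map_sup, MonoidHom.map_zpowers, QuotientGroup.map_mk'_self, sup_bot_eq]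
    rw [e, inf_eq_right.mpr (le_sup_right : Q ≤ K), Nat.card_zpowers, D.card_Q,
      show orderOf (QuotientGroup.mk' Q S.β) = 3 by
        rw [← D.e.orderOf_eq]; show orderOf (D.e (QuotientGroup.mk S.β)) = 3
        rw [S.eβ, mk_p3_order]] at h
    rw [← h]
    exact fact_three (m := 2 ^ 25) (by norm_num) (by norm_num)
  obtain ⟨k, hk, hkc⟩ := three_conj K (Subgroup.zpowers (x₀ * S.β * x₀⁻¹)) (Subgroup.zpowers S.β)
    (Subgroup.zpowers_le.mpr hym) le_sup_left (by rw [Nat.card_zpowers, hord])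
    (by rw [Nat.card_zpowers, S.order_β]) hK
  rw [← SetLike.mem_coe, Subgroup.mul_normal, Set.mem_mul] at hk
  obtain ⟨b, hb, n, hn, rfl⟩ := hk
  obtain ⟨l, -, hl⟩ := mem_pow S.pow3 (hkc _ (Subgroup.mem_zpowers _))
  obtain ⟨i, -, rfl⟩ := mem_pow S.pow3 hb
  have hval : n * x₀ * S.β * (n * x₀)⁻¹ = S.β ^ l := by
    have hc : (S.β ^ i)⁻¹ * S.β ^ l * S.β ^ i = S.β ^ l := by
      rw [mul_assoc, (Commute.pow_pow_self S.β l i).eq, inv_mul_cancel_left]
    calc n * x₀ * S.β * (n * x₀)⁻¹ = (S.β ^ i)⁻¹ * (S.β ^ i * n * (x₀ * S.β * x₀⁻¹) * (S.β ^ i * n)⁻¹) * S.β ^ i := by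
          group
      _ = _ := by rw [hl, hc]
  have hnx : (QuotientGroup.mk (n * x₀) : Cz z ⧸ Q) = QuotientGroup.mk x₀ := by
    rw [QuotientGroup.mk_mul, (QuotientGroup.eq_one_iff n).mpr hn, one_mul]
  refine ⟨n * x₀, by rw [hnx, hy], hval.trans (S.mk_pow_inj ?_)⟩
  rw [← hval, ← hmk]
  simp only [QuotientGroup.mk_mul, QuotientGroup.mk_inv, (QuotientGroup.eq_one_iff n).mpr hn, one_mul]

theorem image_rel {x : Cz z} {g : ↥Co0} {j : ℕ} (hg : D.e (QuotientGroup.mk x) = QuotientGroup.mk g)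
    (hx : x * S.β * x⁻¹ = S.β ^ j) (hj : ¬ 3 ∣ j) : g * p3 * g⁻¹ = p3 ^ j := by
  haveI : Fact (Nat.Prime 3) := ⟨by norm_num⟩
  refine exact_rel ?_ ?_
  · rw [orderOf_pow' _ (by rintro rfl; exact hj (dvd_zero 3)), order_p3,
      Nat.Coprime.gcd_eq_one ((Nat.Prime.coprime_iff_not_dvd (by norm_num)).mpr hj), Nat.div_one]
  · have h := congrArg (fun t : Cz z => D.e (QuotientGroup.mk t)) hx
    simp only [QuotientGroup.mk_mul, QuotientGroup.mk_inv, QuotientGroup.mk_pow, map_mul, map_inv, map_pow, hg, S.eβ] at h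
    simpa only [QuotientGroup.mk_mul, QuotientGroup.mk_inv, QuotientGroup.mk_pow] using h

theorem image_comm {x : Cz z} {g : ↥Co0} (hg : D.e (QuotientGroup.mk x) = QuotientGroup.mk g)
    (hx : x * S.β = S.β * x) : g ∈ CC := by
  have h := S.image_rel (j := 1) hg (by rw [hx, mul_inv_cancel_right, pow_one]) (by norm_num)
  rw [pow_one] at h
  exact mem_CC.mpr (mul_inv_eq_iff_eq_mul.mp h)

/-! ### The fixed points on `Q` -/

theorem fix_iff {q : Q} {v : ↥leechLattice} (h : D.ψ v = QuotientGroup.mk q) :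
    S.β * (q : Cz z) = (q : Cz z) * S.β ↔ v ∈ P := by
  have h1 := D.iso.2.2.2 S.β p3 S.eβ.symm v q h
  set q' : Q := ⟨S.β * (q : Cz z) * S.β⁻¹, (inferInstance : Q.Normal).conj_mem _ q.2 _⟩
  constructor
  · intro hc
    refine class_mem (D.psi_cg.mp ?_)
    rw [h1, h]
    exact congrArg QuotientGroup.mk (Subtype.ext (mul_inv_eq_iff_eq_mul.mpr hc))
  · intro hv
    have h2 : (QuotientGroup.mk q' : Q ⧸ Subgroup.center Q) = QuotientGroup.mk q :=
      h1.symm.trans ((D.psi_cg.mpr (p3_fix hv)).trans h)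
    rcases D.mk_eq_mk.mp h2 with e | e
    · exact mul_inv_eq_iff_eq_mul.mp (congrArg Subtype.val e).symm
    · exfalso
      set w : Cz z := (D.zq : Cz z)
      have e' : (q : Cz z) = S.β * (q : Cz z) * S.β⁻¹ * w := congrArg Subtype.val e
      have hcen : ∀ x : Cz z, Commute x w := fun x => Subgroup.mem_center_iff.mp zc_central x
      have hw2 : w * w = 1 := congrArg Subtype.val D.ext2.zz
      have hstep : S.β * (q : Cz z) * S.β⁻¹ = (q : Cz z) * w := by
        conv_rhs => rw [e', mul_assoc, hw2, mul_one]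
      have hn : ∀ n : ℕ, S.β ^ n * (q : Cz z) * (S.β ^ n)⁻¹ = (q : Cz z) * w ^ n := by
        intro n
        induction n with
        | zero => simp
        | succ n ih =>
          calc S.β ^ (n + 1) * (q : Cz z) * (S.β ^ (n + 1))⁻¹
              = S.β * (S.β ^ n * (q : Cz z) * (S.β ^ n)⁻¹) * S.β⁻¹ := by rw [pow_succ']; group
            _ = S.β * (q : Cz z) * S.β⁻¹ * w ^ n := by
                rw [ih]
                calc S.β * ((q : Cz z) * w ^ n) * S.β⁻¹ = S.β * (q : Cz z) * (w ^ n * S.β⁻¹) := by group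
                  _ = S.β * (q : Cz z) * (S.β⁻¹ * w ^ n) := by rw [((hcen S.β⁻¹).pow_right n).eq]
                  _ = _ := by group
            _ = _ := by rw [hstep, pow_succ', mul_assoc]
      have h5 := hn 3
      rw [S.pow3, one_mul, inv_one, mul_one, eq_comm, mul_eq_left] at h5
      exact D.ext2.ne (Subtype.ext (q_cop D D.zq.2 h5))

/-- The fixed points. -/
def R : Subgroup (Cz z) := Q ⊓ Subgroup.centralizer {S.β}

theorem mem_R {x : Cz z} : x ∈ S.R ↔ x ∈ Q ∧ S.β * x = x * S.β :=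
  and_congr_right fun _ => Subgroup.mem_centralizer_singleton_iff.trans eq_comm

theorem zq_mem_R : (D.zq : Cz z) ∈ S.R :=
  S.mem_R.mpr ⟨D.zq.2, Subgroup.mem_center_iff.mp zc_central S.β⟩

theorem rep_mem_R {v : ↥leechLattice} (hv : v ∈ P) : (D.rep v : Cz z) ∈ S.R :=
  S.mem_R.mpr ⟨(D.rep v).2, (S.fix_iff (D.mk_rep v).symm).mpr hv⟩

theorem card_R : Nat.card ↥S.R = 512 := by
  let f : Fin 256 × Bool → ↥S.R := fun p =>
    ⟨(D.rep (sub p.1.val) : Cz z) * cond p.2 (D.zq : Cz z) 1, S.R.mul_mem (S.rep_mem_R (sub_mem_P p.1.isLt))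
      (by cases p.2
          · exact one_mem _
          · exact S.zq_mem_R)⟩
  have hf : Function.Bijective f := by
    refine ⟨?_, ?_⟩
    · rintro ⟨m, b⟩ ⟨n, c⟩ h
      have h' : D.rep (sub m.val) * cond b D.zq 1 = D.rep (sub n.val) * cond c D.zq 1 := by
        have hv := congrArg Subtype.val h
        cases b <;> cases c <;> exact Subtype.ext hv
      have hz : ∀ x : Bool, (QuotientGroup.mk (cond x D.zq 1) : Q ⧸ Subgroup.center Q) = 1 := fun x => by
        rw [QuotientGroup.eq_one_iff]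
        cases x
        · exact one_mem _
        · exact (D.ext2.center_iff _).mpr (Or.inr rfl)
      have hm := congrArg (fun q : Q => (QuotientGroup.mk q : Q ⧸ Subgroup.center Q)) h'
      simp only [QuotientGroup.mk_mul, hz, mul_one, D.mk_rep] at hm
      have hmn : m = n := Fin.ext (sub_inj m.isLt n.isLt (D.psi_cg.mp hm))
      subst hmn
      have hbc := mul_left_cancel h'
      cases b <;> cases c
      · rfl
      · exact absurd hbc.symm D.ext2.ne
      · exact absurd hbc D.ext2.ne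
      · rfl
    · rintro ⟨x, hx⟩
      obtain ⟨hxQ, hxc⟩ := S.mem_R.mp hx
      obtain ⟨v, hv⟩ := D.iso.2.1 (QuotientGroup.mk (⟨x, hxQ⟩ : Q))
      obtain ⟨m, hm, hcg⟩ := (S.fix_iff hv).mp hxc
      have h2 := (D.mk_rep (sub m)).trans ((D.psi_cg.mpr hcg).symm.trans hv)
      rcases D.mk_eq_mk.mp h2 with e | e
      · exact ⟨(⟨m, hm⟩, false), Subtype.ext (by
          show (D.rep (sub m) : Cz z) * 1 = x
          rw [mul_one]; exact (congrArg Subtype.val e).symm)⟩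
      · exact ⟨(⟨m, hm⟩, true), Subtype.ext (congrArg Subtype.val e).symm⟩
  rw [← Nat.card_eq_of_bijective f hf, Nat.card_prod, Nat.card_fin, Nat.card_eq_fintype_card (α := Bool), Fintype.card_bool]

theorem comm_ip {q r : Q} {v w : ↥leechLattice} (hv : D.ψ v = QuotientGroup.mk q)
    (hw : D.ψ w = QuotientGroup.mk r) : q * r = r * q ↔ ip v w = 0 := by
  have h1 : D.ψ (v + w) = QuotientGroup.mk (q * r) := by rw [D.psi_add, hv, hw, QuotientGroup.mk_mul]
  have hb : D.sqf (q * r) = D.sqf q + D.sqf r + D.bf q r := D.sqf_mul q r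
  rw [← D.rep_spec h1, ← D.rep_spec hv, ← D.rep_spec hw] at hb
  change D.qf _ = D.qf _ + D.qf _ + _ at hb
  rw [D.qf_eq, D.qf_eq, D.qf_eq] at hb
  have h3 := (sqNorm_sub_add (v : GolayPt → ℤ) (w : GolayPt → ℤ)).2
  rw [← AddSubgroup.coe_add] at h3
  have h16a := sqNorm_dvd (mem_leech.mp v.2)
  have h16b := sqNorm_dvd (mem_leech.mp w.2)
  have h8 := CfsgCoTwoOut.dot_dvd v w
  have e : sqNorm ((v + w : ↥leechLattice) : GolayPt → ℤ) / 16 = sqNorm (v : GolayPt → ℤ) / 16 +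
      sqNorm (w : GolayPt → ℤ) / 16 + dotInt (v : GolayPt → ℤ) (w : GolayPt → ℤ) / 8 := by omega
  rw [e, Int.cast_add, Int.cast_add] at hb
  have hbf : D.bf q r = ip v w := (add_left_cancel hb).symm
  rw [← hbf]
  unfold Data.bf
  by_cases hq : q * r = r * q <;> simp [hq]

/-- A fixed element flipping the sign of a fixed element outside the centre. -/
theorem exists_flip {q : Q} {v : ↥leechLattice} (hv : D.ψ v = QuotientGroup.mk q) (hvP : v ∈ P)
    (h0 : ¬ Cg v 0) : ∃ r : Q, (r : Cz z) ∈ S.R ∧ r * q * r⁻¹ = q * D.zq := by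
  obtain ⟨m, hm, hcg⟩ := hvP
  obtain ⟨j, hj, hip⟩ := sub_ip hm (fun e => h0 (by rw [e, sub_zero'] at hcg; exact hcg))
  refine ⟨D.rep (ev' j), S.rep_mem_R (ev_mem_P hj), ?_⟩
  set r := D.rep (ev' j)
  have hne : ¬ q * r = r * q := by
    rw [comm_ip hv (D.mk_rep _).symm, ip_cg hcg, hip]; exact one_ne_zero
  rcases D.ext2.comm_cases r q with e | e
  · exact absurd (commutatorElement_eq_one_iff_mul_comm.mp e).symm hne
  · rw [commutatorElement_def] at e
    calc r * q * r⁻¹ = r * q * r⁻¹ * q⁻¹ * q := by group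
      _ = D.zq * q := by rw [e]
      _ = q * D.zq := (D.ext2.z_comm q).eq.symm

theorem a_facts : IsConj z ((S.a : Cz z) : G) ∧ ((S.a : Cz z) : G) ≠ z := D.conj_of_norm64 ax_norm S.vec

theorem a_nc : S.a ∉ Subgroup.center ↥Q :=
  D.not_center S.vec (Data.ne_zero_of_norm ax_norm (by norm_num)) (by rw [ax_norm])

/-- The element of the centraliser of `z` under a conjugating element. -/
theorem y_mem_Q {g : G} (hg : g * z * g⁻¹ = ((S.a : Cz z) : G)) :
    ∃ y : Q, ((y : Cz z) : G) = g⁻¹ * z * g := by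
  obtain ⟨-, v, g₀, -, -, -, hcard, -⟩ := D.main hg S.a_facts.2
  by_contra hnot
  push Not at hnot
  have hzn : (D.zq : Cz z) ∉ Qc Q g := fun h => by
    obtain ⟨p, hp, hpe⟩ := mem_Qc.mp h
    refine hnot ⟨p, hp⟩ ?_
    show (p : G) = g⁻¹ * z * g
    have hpe' : g * (p : G) * g⁻¹ = z := hpe
    calc (p : G) = g⁻¹ * (g * (p : G) * g⁻¹) * g := by group
      _ = _ := by rw [hpe']
  set E : Subgroup ↥Q := (Qc Q g).subgroupOf Q with hE
  have hEc : Nat.card ↥E = 2 ^ 13 := by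
    rw [hE, ← Subgroup.card_map_of_injective Q.subtype_injective, Subgroup.subgroupOf_map_subtype, inf_comm]
    exact hcard
  have hzE : D.zq ∉ E := hzn
  have hcen : D.zq ∈ Subgroup.center ↥Q := (D.ext2.center_iff _).mpr (Or.inr rfl)
  haveI : (Subgroup.zpowers D.zq).Normal := ⟨fun x hx y => by
    have hxc : x ∈ Subgroup.center ↥Q := Subgroup.zpowers_le.mpr hcen hx
    rw [Subgroup.mem_center_iff.mp hxc y, mul_inv_cancel_right]; exact hx⟩
  set A := E ⊔ Subgroup.zpowers D.zq with hA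
  have hz2 : ∀ b ∈ Subgroup.zpowers D.zq, b = 1 ∨ b = D.zq := fun b hb =>
    (D.ext2.center_iff b).mp (Subgroup.zpowers_le.mpr hcen hb)
  have hAm : ∀ x ∈ A, ∃ e ∈ E, ∃ b ∈ Subgroup.zpowers D.zq, x = e * b := fun x hx => by
    rw [hA, ← SetLike.mem_coe, Subgroup.mul_normal, Set.mem_mul] at hx
    obtain ⟨e, he, b, hb, rfl⟩ := hx
    exact ⟨e, he, b, hb, rfl⟩
  have hcomm : ∀ e₁ ∈ E, ∀ e₂ ∈ E, e₁ * e₂ = e₂ * e₁ ∧ e₁ * e₁ = 1 := fun e₁ h₁ e₂ h₂ =>
    D.qc_comm_sq hg S.a_facts.2 e₁ e₂ h₁ h₂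
  have hsq : ∀ x ∈ A, x * x = 1 := by
    intro x hx
    obtain ⟨e, he, b, hb, rfl⟩ := hAm x hx
    rcases hz2 b hb with rfl | rfl
    · rw [mul_one]; exact (hcomm e he e he).2
    · rw [(D.ext2.z_comm e).symm.mul_mul_mul_comm, (hcomm e he e he).2, D.ext2.zz, one_mul]
  have hAc : IsMulCommutative A := ⟨⟨fun x y => Subtype.ext (by
    have inv : ∀ t ∈ A, t⁻¹ = t := fun t ht => inv_eq_of_mul_eq_one_right (hsq t ht)
    calc (x : Q) * y = ((x : Q) * y)⁻¹ := (inv _ (A.mul_mem x.2 y.2)).symm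
      _ = (y : Q) * x := by rw [mul_inv_rev, inv _ x.2, inv _ y.2])⟩⟩
  have hle := (ExtraTwo.card_elementary_le D.ext2 (n := 12) D.card_Q hAc fun t ht => by rw [pow_two]; exact hsq t ht).1
  have hlt : E < A := lt_of_le_of_ne le_sup_left fun e => hzE (by rw [e]; exact Subgroup.mem_sup_right (Subgroup.mem_zpowers _))
  have hdvd := Subgroup.card_dvd_of_le hlt.le
  have hne : Nat.card ↥E ≠ Nat.card ↥A := fun e => hlt.ne (Subgroup.eq_of_le_of_card_ge hlt.le e.ge)
  have hpos : 0 < Nat.card ↥A := Nat.card_pos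
  rw [hEc] at hdvd hne
  have := Nat.le_of_dvd hpos hdvd
  norm_num at hle hne this
  omega

/-- Fusion of `z` with the marked conjugate inside the centraliser of the element of order three. -/
theorem exists_fuse_a : ∃ n : G, n * (S.β : G) = (S.β : G) * n ∧ n * z * n⁻¹ = ((S.a : Cz z) : G) := by
  obtain ⟨g, hg⟩ := isConj_iff.mp S.a_facts.1
  obtain ⟨y, hy⟩ := S.y_mem_Q hg
  have hyconj : IsConj z ((y : Cz z) : G) := isConj_iff.mpr ⟨g⁻¹, by rw [hy]; group⟩
  have hyne : ((y : Cz z) : G) ≠ z := fun e => S.a_facts.2 (by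
    rw [← hg]
    calc g * z * g⁻¹ = g * (g⁻¹ * z * g) * g⁻¹ := by rw [← hy, e]
      _ = z := by group)
  obtain ⟨v, hn, hv⟩ := D.norm_of_conj hyconj hyne
  obtain ⟨c, hc⟩ := D.conj_of_norm hv S.vec (hn.trans ax_norm.symm) (Or.inr hn)
  have hcG : (c : G) * (g⁻¹ * z * g) * (c : G)⁻¹ = ((S.a : Cz z) : G) := by
    rw [← hy]; exact congrArg Subtype.val hc
  have hβz : (S.β : G) * z = z * (S.β : G) := Subgroup.mem_centralizer_singleton_iff.mp S.β.2
  have hβa : (S.β : G) * ((S.a : Cz z) : G) = ((S.a : Cz z) : G) * (S.β : G) := congrArg Subtype.val S.comm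
  -- the conjugate of the group of order three
  have hβ1 : g⁻¹ * (S.β : G) * g ∈ Cz z := by
    refine Subgroup.mem_centralizer_singleton_iff.mpr ?_
    calc g⁻¹ * (S.β : G) * g * z = g⁻¹ * ((S.β : G) * (g * z * g⁻¹)) * g := by group
      _ = g⁻¹ * ((g * z * g⁻¹) * (S.β : G)) * g := by rw [hg, hβa]
      _ = _ := by group
  set β' : Cz z := c * ⟨_, hβ1⟩ * c⁻¹ with hβ'
  have hβ'c : β' ∈ Subgroup.centralizer ({(S.a : Cz z)} : Set (Cz z)) := by
    refine Subgroup.mem_centralizer_singleton_iff.mpr (Subtype.ext ?_)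
    show (c : G) * (g⁻¹ * (S.β : G) * g) * (c : G)⁻¹ * ((S.a : Cz z) : G) =
      ((S.a : Cz z) : G) * ((c : G) * (g⁻¹ * (S.β : G) * g) * (c : G)⁻¹)
    rw [← hcG]
    calc (c : G) * (g⁻¹ * (S.β : G) * g) * (c : G)⁻¹ * ((c : G) * (g⁻¹ * z * g) * (c : G)⁻¹)
        = (c : G) * g⁻¹ * ((S.β : G) * z) * g * (c : G)⁻¹ := by group
      _ = (c : G) * g⁻¹ * (z * (S.β : G)) * g * (c : G)⁻¹ := by rw [hβz]
      _ = _ := by group
  have hord : orderOf β' = 3 := by
    rw [← S.order_β, ← Subgroup.orderOf_coe β', ← Subgroup.orderOf_coe S.β]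
    have : (β' : G) = MulAut.conj ((c : G) * g⁻¹) (S.β : G) := by
      rw [MulAut.conj_apply, hβ']
      show (c : G) * (g⁻¹ * (S.β : G) * g) * (c : G)⁻¹ = _
      group
    rw [this, MulEquiv.orderOf_eq]
  obtain ⟨u, hu⟩ : ∃ u : G, u = (c : G) * g⁻¹ := ⟨_, rfl⟩
  have huβ : (β' : G) = u * (S.β : G) * u⁻¹ := by
    rw [hu, hβ']
    show (c : G) * (g⁻¹ * (S.β : G) * g) * (c : G)⁻¹ = _
    group
  have huz : u * z * u⁻¹ = ((S.a : Cz z) : G) := by
    rw [hu, ← hcG]; group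
  have hua : u * ((S.a : Cz z) : G) * u⁻¹ = z := by
    have hcz : (c : G) * z = z * (c : G) := Subgroup.mem_centralizer_singleton_iff.mp c.2
    rw [hu, ← hg, show (c : G) * g⁻¹ * (g * z * g⁻¹) * ((c : G) * g⁻¹)⁻¹ = (c : G) * z * (c : G)⁻¹ by group,
      hcz, mul_inv_cancel_right]
  have hnc' : ¬ Central3 (Subgroup.centralizer ({z, ((S.a : Cz z) : G)} : Set G)) (β' : G) := by
    rintro ⟨P, hPL, hP, hyP, hPc⟩
    refine S.nc ⟨P.map (MulAut.conj u⁻¹).toMonoidHom, ?_, ?_, ?_, ?_⟩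
    · rintro _ ⟨p, hp, rfl⟩
      have hp' := Subgroup.mem_centralizer_iff.mp (hPL hp)
      have e1 := hp' z (Or.inl rfl)
      have e2 := hp' _ (Or.inr rfl)
      rw [Subgroup.mem_centralizer_iff]
      rintro w (rfl | rfl)
      · show w * (u⁻¹ * p * u⁻¹⁻¹) = u⁻¹ * p * u⁻¹⁻¹ * w
        calc w * (u⁻¹ * p * u⁻¹⁻¹) = u⁻¹ * (u * w * u⁻¹ * p) * u⁻¹⁻¹ := by group
          _ = u⁻¹ * (p * (u * w * u⁻¹)) * u⁻¹⁻¹ := by rw [huz, e2]
          _ = _ := by group
      · show ((S.a : Cz z) : G) * (u⁻¹ * p * u⁻¹⁻¹) = u⁻¹ * p * u⁻¹⁻¹ * ((S.a : Cz z) : G)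
        calc ((S.a : Cz z) : G) * (u⁻¹ * p * u⁻¹⁻¹) = u⁻¹ * (u * ((S.a : Cz z) : G) * u⁻¹ * p) * u⁻¹⁻¹ := by group
          _ = u⁻¹ * (p * (u * ((S.a : Cz z) : G) * u⁻¹)) * u⁻¹⁻¹ := by rw [hua, e1]
          _ = _ := by group
    · rw [Subgroup.card_map_of_injective (MulAut.conj u⁻¹).injective, hP]
    · exact ⟨(β' : G), hyP, by
        show u⁻¹ * (β' : G) * u⁻¹⁻¹ = (S.β : G)
        rw [huβ]; group⟩
    · rintro _ ⟨p, hp, rfl⟩
      show u⁻¹ * p * u⁻¹⁻¹ * (S.β : G) = (S.β : G) * (u⁻¹ * p * u⁻¹⁻¹)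
      calc u⁻¹ * p * u⁻¹⁻¹ * (S.β : G) = u⁻¹ * (p * (u * (S.β : G) * u⁻¹)) * u⁻¹⁻¹ := by group
        _ = u⁻¹ * (u * (S.β : G) * u⁻¹ * p) * u⁻¹⁻¹ := by rw [← huβ, hPc p hp]
        _ = _ := by group
  obtain ⟨h, hh, hhe⟩ := classify D S.vec S.a_nc (Subgroup.mem_centralizer_singleton_iff.mp hβ'c) hord hnc'
  -- the two elements have the same image, so are conjugate in the centraliser
  set La := Subgroup.centralizer ({(S.a : Cz z)} : Set (Cz z))
  have hhL : h ∈ La := Subgroup.mem_centralizer_singleton_iff.mpr hh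
  have hmk : (QuotientGroup.mk' Q) (h * β' * h⁻¹) = (QuotientGroup.mk' Q) S.β := D.e.injective (hhe.trans S.eβ.symm)
  have hker : Nat.card ↥((QuotientGroup.mk' Q).comp La.subtype).ker = 2 ^ 24 := by
    rw [← MonoidHom.comap_ker, QuotientGroup.ker_mk']
    show Nat.card ↥(Q.subgroupOf La) = _
    rw [← Subgroup.card_map_of_injective La.subtype_injective, Subgroup.subgroupOf_map_subtype, inf_comm,
      D.card_centralizer_Q S.a_nc]
  obtain ⟨d, hd⟩ := conj_of_same_image ((QuotientGroup.mk' Q).comp La.subtype) hker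
    (x := (⟨h, hhL⟩ : ↥La) * ⟨β', hβ'c⟩ * (⟨h, hhL⟩ : ↥La)⁻¹)
    (y := ⟨S.β, Subgroup.mem_centralizer_singleton_iff.mpr S.comm⟩)
    (by rw [show ∀ w v : ↥La, w * v * w⁻¹ = MulAut.conj w v from fun w v => rfl, MulEquiv.orderOf_eq, ← Subgroup.orderOf_coe]
        exact hord)
    (by rw [← Subgroup.orderOf_coe]; exact S.order_β) hmk
  obtain ⟨n, hndef⟩ : ∃ n : G, n = ((d : Cz z) : G) * (h : G) * u := ⟨_, rfl⟩
  have hnβ : n * (S.β : G) * n⁻¹ = (S.β : G) := by
    have h1 : ((d : Cz z) : G) * ((h : G) * (β' : G) * (h : G)⁻¹) * ((d : Cz z) : G)⁻¹ = (S.β : G) :=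
      congrArg (fun t : ↥La => ((t : Cz z) : G)) hd
    calc n * (S.β : G) * n⁻¹ = ((d : Cz z) : G) * ((h : G) * (u * (S.β : G) * u⁻¹) * (h : G)⁻¹) * ((d : Cz z) : G)⁻¹ := by
          rw [hndef]; group
      _ = _ := by rw [← huβ, h1]
  refine ⟨n, mul_inv_eq_iff_eq_mul.mp hnβ, ?_⟩
  have hda : ((d : Cz z) : G) * ((S.a : Cz z) : G) = ((S.a : Cz z) : G) * ((d : Cz z) : G) :=
    congrArg Subtype.val (Subgroup.mem_centralizer_singleton_iff.mp d.2)
  have hha : (h : G) * ((S.a : Cz z) : G) = ((S.a : Cz z) : G) * (h : G) := congrArg Subtype.val hh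
  calc n * z * n⁻¹ = ((d : Cz z) : G) * ((h : G) * (u * z * u⁻¹) * (h : G)⁻¹) * ((d : Cz z) : G)⁻¹ := by rw [hndef]; group
    _ = _ := by rw [huz, hha, mul_inv_cancel_right, hda, mul_inv_cancel_right]

end Thom

end CfsgLib.MonsterQ.Thompson
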