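/-
Groups of Monster type: the centraliser of the element of order three modulo the group it generates is of Thompson type.
-/
import Cfsg.Agent.Lib.MonsterQ.Thompson.Setup
import Cfsg.Agent.Lib.Comp.Layer
import Cfsg.Agent.Lib.LargeExtra.Odd

set_option autoImplicit false
set_option maxRecDepth 100000
set_option linter.style.haveILetI false
set_option linter.unusedSectionVars false

namespace CfsgLib.MonsterQ.Thompson

open Cfsg CfsgGolay CfsgLeech CfsgLib.ExtraTwo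
open CfsgLib.MonsterQ.Seven (ip ip_cg)
open scoped Pointwise commutatorElement

attribute [local irreducible] codeL octadL dodecadL slpCodes r3B

theorem ext2_equiv {E F : Type*} [Group E] [Group F] (e : E ≃* F) {w : E} (h : Ext2 E w) : Ext2 F (e w) := by
  refine ⟨fun h1 => h.ne (e.injective (h1.trans e.map_one.symm)), fun x => ?_, fun x => ?_⟩
  · obtain ⟨x, rfl⟩ := e.surjective x
    rw [← e.map_one, e.injective.eq_iff, e.injective.eq_iff, ← h.center_iff, Subgroup.mem_center_iff,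
      Subgroup.mem_center_iff]
    refine ⟨fun hh y => e.injective (by rw [map_mul, map_mul]; exact hh (e y)), fun hh y => ?_⟩
    obtain ⟨y, rfl⟩ := e.surjective y
    rw [← map_mul, ← map_mul, hh]
  · obtain ⟨x, rfl⟩ := e.surjective x
    rw [← map_mul, ← e.map_one, e.injective.eq_iff, e.injective.eq_iff]
    exact h.sq x

variable {G : Type*} [Group G] [Finite G] {z : G} {Q : Subgroup (Subgroup.centralizer ({z} : Set G))} [Q.Normal]

namespace Thom

variable {D : Data z Q} (S : Thom D)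

/-- The element of order three in the group. -/
abbrev bG : G := (S.β : G)

/-- The group of order three. -/
abbrev B : Subgroup G := Subgroup.zpowers S.bG

/-- Its centraliser. -/
abbrev X : Subgroup G := Subgroup.centralizer ((S.B : Subgroup G) : Set G)

/-- The group of order three inside its centraliser. -/
abbrev N : Subgroup ↥S.X := S.B.subgroupOf S.X

theorem mem_X {x : G} : x ∈ S.X ↔ x * S.bG = S.bG * x := by
  refine ⟨fun h => (Subgroup.mem_centralizer_iff.mp h S.bG (Subgroup.mem_zpowers _)).symm,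
    fun h => Subgroup.mem_centralizer_iff.mpr ?_⟩
  rintro y ⟨k, rfl⟩
  exact ((show Commute x S.bG from h).zpow_right k).eq.symm

theorem N_normal : S.N.Normal := ⟨fun n hn x => by
  have h : (n : G) * (x : G) = (x : G) * (n : G) := Subgroup.mem_centralizer_iff.mp x.2 _ hn
  show (x : G) * (n : G) * (x : G)⁻¹ ∈ S.B
  rw [← h, mul_inv_cancel_right]
  exact hn⟩

theorem bG_pow : S.bG ^ 3 = 1 := by
  show ((S.β : Cz z) : G) ^ 3 = 1
  rw [← SubgroupClass.coe_pow, S.pow3]; rfl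

theorem B_pow {b : G} (hb : b ∈ S.B) : b ^ 3 = 1 := by
  obtain ⟨k, rfl⟩ := hb
  show (S.bG ^ k) ^ 3 = 1
  rw [← zpow_natCast, ← zpow_mul, mul_comm, zpow_mul, zpow_natCast, S.bG_pow, one_zpow]

theorem B_two {b : G} (hb : b ∈ S.B) (h2 : b * b = 1) : b = 1 := by
  have h5 := S.B_pow hb
  rwa [show 3 = 2 * 1 + 1 from rfl, pow_succ, pow_mul, show b ^ 2 = 1 by rw [pow_two, h2], one_pow, one_mul] at h5

theorem z_mem : z ∈ S.X := S.mem_X.mpr (Subgroup.mem_centralizer_singleton_iff.mp S.β.2).symm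

theorem zz (D : Data z Q) : z * z = 1 := by rw [← pow_two, ← D.set'.1, pow_orderOf_eq_one]

/-- The centraliser inside `C`. -/
abbrev CD : Subgroup (Cz z) := Subgroup.centralizer ({S.β} : Set (Cz z))

theorem cd_mem (d : ↥S.CD) : ((d : Cz z) : G) ∈ S.X :=
  S.mem_X.mpr (congrArg Subtype.val (Subgroup.mem_centralizer_singleton_iff.mp d.2))

theorem q_mem {q : Q} (hq : (q : Cz z) ∈ S.R) : ((q : Cz z) : G) ∈ S.X :=
  S.mem_X.mpr (congrArg Subtype.val (S.mem_R.mp hq).2).symm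

theorem ext2R : Ext2 ↥S.R ⟨(D.zq : Cz z), S.zq_mem_R⟩ := by
  refine ⟨fun h => D.ext2.ne (Subtype.ext (congrArg (fun r : ↥S.R => (r : Cz z)) h)), fun r => ⟨fun hr => ?_, ?_⟩,
    fun r => ?_⟩
  · set q : Q := ⟨(r : Cz z), (S.mem_R.mp r.2).1⟩
    obtain ⟨v, hv⟩ := D.iso.2.1 (QuotientGroup.mk q)
    obtain ⟨m, hm, hcg⟩ := (S.fix_iff hv).mp (S.mem_R.mp r.2).2
    have hm0 : m = 0 := by
      by_contra h0
      obtain ⟨j, hj, hip⟩ := sub_ip hm h0
      have hc : q * D.rep (ev' j) = D.rep (ev' j) * q := Subtype.ext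
        (congrArg (fun t : ↥S.R => (t : Cz z)) (Subgroup.mem_center_iff.mp hr ⟨_, S.rep_mem_R (ev_mem_P hj)⟩)).symm
      rw [comm_ip hv (D.mk_rep _).symm, ip_cg hcg, hip] at hc
      exact one_ne_zero hc
    subst hm0
    rw [sub_zero'] at hcg
    have h1 : (QuotientGroup.mk q : Q ⧸ Subgroup.center Q) = 1 := by rw [← hv, ← D.psi_zero, D.psi_cg]; exact hcg
    rcases (D.ext2.center_iff q).mp ((QuotientGroup.eq_one_iff q).mp h1) with e | e
    · exact Or.inl (Subtype.ext (congrArg Subtype.val e : (q : Cz z) = 1))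
    · exact Or.inr (Subtype.ext (congrArg Subtype.val e : (q : Cz z) = _))
  · rintro (rfl | rfl)
    · exact one_mem _
    · exact Subgroup.mem_center_iff.mpr fun t => Subtype.ext (Subgroup.mem_center_iff.mp zc_central (t : Cz z))
  · rcases D.ext2.sq ⟨(r : Cz z), (S.mem_R.mp r.2).1⟩ with e | e
    · exact Or.inl (Subtype.ext (congrArg (fun q : Q => (q : Cz z)) e))
    · exact Or.inr (Subtype.ext (congrArg (fun q : Q => (q : Cz z)) e))

variable [S.N.Normal]

/-- The quotient group. -/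
abbrev Gb : Type _ := ↥S.X ⧸ S.N

/-- The image of an element. -/
abbrev im (x : G) (hx : x ∈ S.X) : S.Gb := QuotientGroup.mk ⟨x, hx⟩

/-- The image of `z`. -/
def zb : S.Gb := S.im z S.z_mem

theorem im_eq {x y : G} {hx : x ∈ S.X} {hy : y ∈ S.X} : S.im x hx = S.im y hy ↔ x⁻¹ * y ∈ S.B := by
  rw [im, im, QuotientGroup.eq, Subgroup.mem_subgroupOf]
  rfl

theorem zb_order : orderOf S.zb = 2 := by
  haveI : Fact (Nat.Prime 2) := ⟨Nat.prime_two⟩
  refine orderOf_eq_prime ?_ ?_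
  · show (QuotientGroup.mk ((⟨z, S.z_mem⟩ : ↥S.X) ^ 2) : S.Gb) = 1
    rw [← QuotientGroup.mk_one, show (⟨z, S.z_mem⟩ : ↥S.X) ^ 2 = 1 from
      Subtype.ext (by rw [SubgroupClass.coe_pow, pow_two]; exact zz D)]
  · intro h
    have hz : z ∈ S.B := Subgroup.mem_subgroupOf.mp ((QuotientGroup.eq_one_iff _).mp h)
    have h1 : z = 1 := S.B_two hz (zz D)
    have h2 := D.set'.1
    rw [h1, orderOf_one] at h2
    norm_num at h2

/-- The map onto the centraliser of the image of `z`. -/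
def toC : ↥S.CD →* ↥(Subgroup.centralizer ({S.zb} : Set S.Gb)) :=
  MonoidHom.mk' (fun d => ⟨S.im ((d : Cz z) : G) (S.cd_mem d), Subgroup.mem_centralizer_singleton_iff.mpr (by
      show _ * S.zb = S.zb * _
      rw [zb, im, ← QuotientGroup.mk_mul, ← QuotientGroup.mk_mul]
      exact congrArg QuotientGroup.mk (Subtype.ext (Subgroup.mem_centralizer_singleton_iff.mp (d : Cz z).2)))⟩)
    fun d d' => Subtype.ext (by rfl)

theorem toC_eq {d d' : ↥S.CD} : S.toC d = S.toC d' ↔ ((d : Cz z) : G)⁻¹ * ((d' : Cz z) : G) ∈ S.B :=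
  Subtype.ext_iff.trans S.im_eq

theorem toC_surjective : Function.Surjective S.toC := by
  rintro ⟨y, hy⟩
  obtain ⟨x, rfl⟩ := QuotientGroup.mk_surjective y
  have h := Subgroup.mem_centralizer_singleton_iff.mp hy
  rw [zb, im, ← QuotientGroup.mk_mul, ← QuotientGroup.mk_mul, QuotientGroup.eq, Subgroup.mem_subgroupOf] at h
  simp only [Subgroup.coe_mul, Subgroup.coe_inv] at h
  obtain ⟨b, hbdef⟩ : ∃ b, b = ((x : G) * z)⁻¹ * (z * (x : G)) := ⟨_, rfl⟩
  have hb : b ∈ S.B := hbdef ▸ h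
  have h1 : z * (x : G) = (x : G) * z * b := by rw [hbdef, mul_inv_cancel_left]
  have hbz : b * z = z * b :=
    (Subgroup.mem_centralizer_iff.mp S.z_mem b hb)
  have h2 : z * b * (z * b) = 1 := by
    have e : (x : G)⁻¹ * z * (x : G) = z * b := by rw [mul_assoc, h1, mul_assoc (x : G) z b, inv_mul_cancel_left]
    rw [← e, show (x : G)⁻¹ * z * (x : G) * ((x : G)⁻¹ * z * (x : G)) = (x : G)⁻¹ * (z * z) * (x : G) by group,
      zz D, mul_one, inv_mul_cancel]
  have hb1 : b = 1 := S.B_two hb (by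
    rwa [(show Commute b z from hbz).mul_mul_mul_comm, zz D, one_mul] at h2)
  rw [hb1, mul_one] at h1
  have hxz : (x : G) ∈ Cz z := Subgroup.mem_centralizer_singleton_iff.mpr h1.symm
  have hxd : (⟨(x : G), hxz⟩ : Cz z) ∈ S.CD :=
    Subgroup.mem_centralizer_singleton_iff.mpr (Subtype.ext (S.mem_X.mp x.2))
  exact ⟨⟨_, hxd⟩, Subtype.ext rfl⟩

theorem R_le_CD : S.R ≤ S.CD := inf_le_right

/-- The map of the fixed points. -/
def toR : ↥S.R →* ↥(Subgroup.centralizer ({S.zb} : Set S.Gb)) := S.toC.comp (Subgroup.inclusion S.R_le_CD)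

theorem toR_injective : Function.Injective S.toR := by
  intro r r' h
  have h1 : ((r : Cz z) : G)⁻¹ * ((r' : Cz z) : G) ∈ S.B := S.toC_eq.mp h
  have h2 : ((r : Cz z)⁻¹ * (r' : Cz z)) ^ 3 = 1 := Subtype.ext (S.B_pow h1)
  exact Subtype.ext (inv_mul_eq_one.mp (q_cop D (Q.mul_mem (Q.inv_mem (S.mem_R.mp r.2).1) (S.mem_R.mp r'.2).1) h2))

/-- The image of the fixed points. -/
def R' : Subgroup ↥(Subgroup.centralizer ({S.zb} : Set S.Gb)) := (Q.subgroupOf S.CD).map S.toC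

theorem R'_eq : S.R' = S.toR.range := by
  ext x
  constructor
  · rintro ⟨d, hd, rfl⟩
    exact ⟨⟨(d : Cz z), ⟨hd, d.2⟩⟩, rfl⟩
  · rintro ⟨r, rfl⟩
    exact ⟨_, (S.mem_R.mp r.2).1, rfl⟩

instance : S.R'.Normal := Subgroup.Normal.map inferInstance _ S.toC_surjective

/-- The fixed points and their image. -/
noncomputable def eqR : ↥S.R ≃* ↥S.R' :=
  (MonoidHom.ofInjective S.toR_injective).trans (MulEquiv.subgroupCongr S.R'_eq.symm)

theorem eqR_val (r : ↥S.R) : ((S.eqR r : ↥S.R') : ↥(Subgroup.centralizer ({S.zb} : Set S.Gb))) = S.toR r := rfl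

theorem ext2R' : Ext2 ↥S.R' (S.eqR ⟨(D.zq : Cz z), S.zq_mem_R⟩) := ext2_equiv S.eqR S.ext2R

theorem card_R' : Nat.card ↥S.R' = 512 := by rw [← Nat.card_congr S.eqR.toEquiv, S.card_R]

theorem extraspecial_R' : IsExtraspecial 2 ↥S.R' := by
  obtain ⟨a, ha⟩ : ∃ a : ↥S.R', a ∉ Subgroup.center ↥S.R' := by
    by_contra h
    push Not at h
    have h2 := S.ext2R'.card_center
    rw [show Subgroup.center ↥S.R' = ⊤ from eq_top_iff.mpr fun x _ => h x, Subgroup.card_top, S.card_R'] at h2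
    norm_num at h2
  rw [Subgroup.mem_center_iff] at ha
  push Not at ha
  obtain ⟨b, hb⟩ := ha
  exact CfsgLargeExtra.isExtraspecial_of_ext2 S.ext2R' hb

/-! ### The factor group -/

theorem psi_congr {g g' : ↥CC} (h : (QuotientGroup.mk (g : ↥Co0) : Spor.Co1) = QuotientGroup.mk (g' : ↥Co0)) :
    psi g = psi g' := by
  have hk : g⁻¹ * g' ∈ psi.ker := by
    rw [psi_ker, Subgroup.mem_subgroupOf]
    exact Subgroup.mem_sup_right (QuotientGroup.eq.1 h)
  rw [MonoidHom.mem_ker, map_mul, map_inv, inv_mul_eq_one] at hk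
  exact hk

omit [S.N.Normal] in
theorem exists_pi : ∃ π : ↥S.CD →* ↥(alternatingGroup (Fin 9)), Function.Surjective π ∧
    (∀ d, π d = 1 → ∃ i : ℕ, (d : Cz z) * (S.β ^ i)⁻¹ ∈ Q) ∧
    (∀ (d : ↥S.CD) (i : ℕ), (d : Cz z) * (S.β ^ i)⁻¹ ∈ Q → π d = 1) ∧
    ∀ (d : ↥S.CD) (g : ↥CC), D.e (QuotientGroup.mk (d : Cz z)) = QuotientGroup.mk (g : ↥Co0) → π d = psi g := by
  have hex : ∀ d : ↥S.CD, ∃ g : ↥CC, D.e (QuotientGroup.mk (d : Cz z)) = QuotientGroup.mk (g : ↥Co0) := fun d => by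
    obtain ⟨g, hg⟩ := QuotientGroup.mk_surjective (D.e (QuotientGroup.mk (d : Cz z)))
    exact ⟨⟨g, S.image_comm hg.symm (Subgroup.mem_centralizer_singleton_iff.mp d.2)⟩, hg.symm⟩
  choose gg hgg using hex
  refine ⟨MonoidHom.mk' (fun d => psi (gg d)) (fun d d' => ?_), fun u => ?_, fun d hd => ?_, fun d i hi => ?_,
    fun d g hg => psi_congr ((hgg d).symm.trans hg)⟩
  · rw [← map_mul]
    refine psi_congr ((hgg _).symm.trans ?_)
    rw [Subgroup.coe_mul, QuotientGroup.mk_mul, map_mul, hgg d, hgg d']; rfl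
  · obtain ⟨g, rfl⟩ := psi_surjective u
    obtain ⟨x, hxe, hxc⟩ := S.exists_lift (g := (g : ↥Co0)) (j := 1) (by
      rw [mem_CC.mp g.2, mul_inv_cancel_right, pow_one])
    rw [pow_one] at hxc
    refine ⟨⟨x, Subgroup.mem_centralizer_singleton_iff.mpr (mul_inv_eq_iff_eq_mul.mp hxc)⟩, ?_⟩
    exact psi_congr ((hgg _).symm.trans hxe)
  · have hk : gg d ∈ psi.ker := hd
    rw [psi_ker, Subgroup.mem_subgroupOf] at hk
    have h1 : (QuotientGroup.mk (gg d : ↥Co0) : Spor.Co1) ∈ Subgroup.zpowers (QuotientGroup.mk p3 : Spor.Co1) := by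
      have h2 := Subgroup.mem_map_of_mem (QuotientGroup.mk' (Subgroup.center ↥Co0)) hk
      rwa [Subgroup.map_sup, MonoidHom.map_zpowers, QuotientGroup.map_mk'_self, sup_bot_eq] at h2
    obtain ⟨i, -, hi⟩ := mem_pow (by rw [← QuotientGroup.mk_pow, p3_pow_three]; rfl) h1
    refine ⟨i, (QuotientGroup.eq_one_iff _).mp (D.e.injective ?_)⟩
    rw [QuotientGroup.mk_mul, QuotientGroup.mk_inv, QuotientGroup.mk_pow, map_mul, map_inv, map_pow, S.eβ, hgg d, hi,
      mul_inv_cancel]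
    exact (map_one D.e).symm
  · show psi (gg d) = 1
    have h1 := congrArg D.e ((QuotientGroup.eq_one_iff _).mpr hi)
    rw [QuotientGroup.mk_mul, QuotientGroup.mk_inv, QuotientGroup.mk_pow, map_mul, map_inv, map_pow, S.eβ, hgg d,
      map_one, mul_inv_eq_one, ← QuotientGroup.mk_pow] at h1
    have hk : (⟨p3, p3_mem⟩ : ↥CC) ^ i ∈ psi.ker := by
      refine pow_mem ?_ i
      rw [psi_ker, Subgroup.mem_subgroupOf]
      exact Subgroup.mem_sup_left (Subgroup.mem_zpowers p3)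
    rw [psi_congr (g := gg d) (g' := ⟨p3, p3_mem⟩ ^ i) (by rw [h1]; rfl)]
    exact hk

theorem exists_F : ∃ (π : ↥S.CD →* ↥(alternatingGroup (Fin 9)))
    (F : ↥(Subgroup.centralizer ({S.zb} : Set S.Gb)) →* ↥(alternatingGroup (Fin 9))), Function.Surjective F ∧ F.ker = S.R' ∧
    (∀ d, F (S.toC d) = π d) ∧
    ∀ (d : ↥S.CD) (g : ↥CC), D.e (QuotientGroup.mk (d : Cz z)) = QuotientGroup.mk (g : ↥Co0) →
      π d = psi g := by
  obtain ⟨π, hs, hk1, hk2, hπ⟩ := S.exists_pi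
  have hker : S.toC.ker ≤ π.ker := fun d hd => by
    rw [MonoidHom.mem_ker, eq_comm, ← map_one S.toC, S.toC_eq] at hd
    simp only [OneMemClass.coe_one, inv_one, one_mul] at hd
    obtain ⟨i, -, hi⟩ := mem_pow S.bG_pow hd
    refine hk2 d i ?_
    rw [show (d : Cz z) = S.β ^ i from Subtype.ext (by rw [SubgroupClass.coe_pow]; exact hi), mul_inv_cancel]
    exact one_mem _
  set F := S.toC.liftOfSurjective S.toC_surjective ⟨π, hker⟩
  have hFd : ∀ d, F (S.toC d) = π d := fun d =>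
    MonoidHom.liftOfRightInverse_comp_apply _ _ _ ⟨π, hker⟩ d
  refine ⟨π, F, fun u => by obtain ⟨d, rfl⟩ := hs u; exact ⟨_, hFd d⟩, ?_, hFd, hπ⟩
  ext x
  obtain ⟨d, rfl⟩ := S.toC_surjective x
  rw [MonoidHom.mem_ker, hFd]
  constructor
  · intro hd
    obtain ⟨i, hi⟩ := hk1 d hd
    have hbc : S.β ^ i ∈ S.CD :=
      Subgroup.mem_centralizer_singleton_iff.mpr (Commute.pow_self S.β i).eq
    refine ⟨d * (⟨_, hbc⟩ : ↥S.CD)⁻¹, hi, ?_⟩
    rw [S.toC_eq]
    simp only [Subgroup.coe_mul, Subgroup.coe_inv, SubgroupClass.coe_pow]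
    rw [mul_inv_rev, inv_inv, mul_assoc, inv_mul_cancel, mul_one]
    exact Subgroup.npow_mem_zpowers _ i
  · rintro ⟨d', hd', he⟩
    rw [← hFd, ← he, hFd]
    exact hk2 d' 0 (by rw [pow_zero, inv_one, mul_one]; exact hd')

theorem centralizer_R' : Subgroup.centralizer (S.R' : Set ↥(Subgroup.centralizer ({S.zb} : Set S.Gb))) ≤ S.R' := by
  obtain ⟨π, F, -, hFk, hFd, hπ⟩ := S.exists_F
  intro x hx
  obtain ⟨d, rfl⟩ := S.toC_surjective x
  rw [← hFk, MonoidHom.mem_ker, hFd]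
  obtain ⟨g, hg⟩ := QuotientGroup.mk_surjective (D.e (QuotientGroup.mk (d : Cz z)))
  have hgC : g ∈ CC := S.image_comm hg.symm (Subgroup.mem_centralizer_singleton_iff.mp d.2)
  refine (hπ d ⟨g, hgC⟩ hg.symm).trans (psi_triv fun m hm => ?_)
  have hjP : sub m ∈ P := sub_mem_P hm
  have hr := S.rep_mem_R hjP
  set r : Q := D.rep (sub m)
  obtain ⟨d₀, hd₀⟩ : ∃ d₀ : ↥S.CD, (d₀ : Cz z) = (r : Cz z) := ⟨⟨_, S.R_le_CD hr⟩, rfl⟩
  have hcm := Subgroup.mem_centralizer_iff.mp hx (S.toC d₀) ⟨d₀, by rw [SetLike.mem_coe, Subgroup.mem_subgroupOf, hd₀]; exact r.2, rfl⟩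
  have hconj : d * d₀ * d⁻¹ ∈ Q.subgroupOf S.CD :=
    (inferInstance : (Q.subgroupOf S.CD).Normal).conj_mem _ (by rw [Subgroup.mem_subgroupOf, hd₀]; exact r.2) d
  have he : S.toR ⟨(r : Cz z), hr⟩ = S.toR ⟨((d * d₀ * d⁻¹ : ↥S.CD) : Cz z), ⟨hconj, (d * d₀ * d⁻¹).2⟩⟩ := by
    show S.toC ⟨(r : Cz z), _⟩ = S.toC (d * d₀ * d⁻¹)
    rw [show (⟨(r : Cz z), S.R_le_CD hr⟩ : ↥S.CD) = d₀ from Subtype.ext hd₀.symm, map_mul, map_mul, map_inv, ← hcm,
      mul_inv_cancel_right]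
  have he2 : (r : Cz z) = (d : Cz z) * (d₀ : Cz z) * (d : Cz z)⁻¹ :=
    congrArg Subtype.val (S.toR_injective he)
  have h1 := D.iso.2.2.2 (d : Cz z) g hg (sub m) r (D.mk_rep _).symm
  refine D.psi_cg.mp (h1.trans ?_)
  rw [← D.mk_rep]
  refine congrArg QuotientGroup.mk (Subtype.ext ?_)
  show (d : Cz z) * (r : Cz z) * (d : Cz z)⁻¹ = (r : Cz z)
  rw [hd₀] at he2
  exact he2.symm

theorem two_R' : IsPGroup 2 ↥S.R' := S.ext2R'.isPGroup

theorem pCore_R' : pCore 2 ↥(Subgroup.centralizer ({S.zb} : Set S.Gb)) = S.R' := by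
  obtain ⟨π, F, hFs, hFk, -, -⟩ := S.exists_F
  haveI : Fact (Nat.Prime 2) := ⟨Nat.prime_two⟩
  refine le_antisymm ?_ (CfsgLib.le_pCore S.two_R')
  rw [← hFk, ← Subgroup.map_eq_bot_iff]
  haveI : IsSimpleGroup ↥(alternatingGroup (Fin 9)) := alternatingGroup.isSimpleGroup (by simp)
  have hn : ((pCore 2 ↥(Subgroup.centralizer ({S.zb} : Set S.Gb))).map F).Normal :=
    Subgroup.Normal.map inferInstance F hFs
  rcases hn.eq_bot_or_eq_top with h | h
  · exact h
  · exfalso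
    have h2 := (CfsgLib.isPGroup_pCore (G := ↥(Subgroup.centralizer ({S.zb} : Set S.Gb))) 2).map F
    rw [h] at h2
    obtain ⟨k, hk⟩ := h2.exists_card_eq
    rw [Subgroup.card_top, card_alt] at hk
    have : (3 : ℕ) ∣ 2 ^ k := ⟨60480, by omega⟩
    have := (show Nat.Prime 3 by norm_num).dvd_of_dvd_pow this
    norm_num at this

theorem gfit_R' : generalizedFittingSubgroup ↥(Subgroup.centralizer ({S.zb} : Set S.Gb)) = S.R' := by
  haveI : Fact (Nat.Prime 2) := ⟨Nat.prime_two⟩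
  rw [(CfsgLib.Comp.gfit_eq_pCore_iff 2).mpr (by rw [S.pCore_R']; exact S.centralizer_R'), S.pCore_R']

/-- The image of the marked conjugate. -/
theorem a_mem_R : (S.a : Cz z) ∈ S.R := S.mem_R.mpr ⟨S.a.2, S.comm⟩

theorem conj_zb : IsConj S.zb (S.im _ (S.q_mem S.a_mem_R)) := by
  obtain ⟨n, hn, hnz⟩ := S.exists_fuse_a
  refine isConj_iff.mpr ⟨S.im n (S.mem_X.mpr hn), ?_⟩
  rw [zb, im, im, ← QuotientGroup.mk_inv, ← QuotientGroup.mk_mul, ← QuotientGroup.mk_mul]
  exact congrArg QuotientGroup.mk (Subtype.ext hnz)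

/-- The group of Thompson type. -/
theorem thompson : IsOfThompsonType S.Gb := by
  refine ⟨S.zb, S.R', inferInstance, ⟨S.zb_order, S.gfit_R', S.extraspecial_R', by rw [S.card_R']; norm_num, ?_⟩, ?_⟩
  · obtain ⟨n, hn⟩ := isConj_iff.mp S.conj_zb
    refine ⟨n, ⟨?_, ?_⟩, ?_⟩
    · rw [hn]
      exact (S.toR ⟨_, S.a_mem_R⟩).2
    · simp only [hn]
      rw [R'_eq]
      exact ⟨⟨_, S.a_mem_R⟩, rfl⟩
    · rw [hn, zb, im, im, ← im, ← im]
      intro he
      rw [S.im_eq] at he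
      have h2 : (((S.a : Cz z) : G)⁻¹ * z) = 1 := by
        have h := S.B_pow he
        exact congrArg Subtype.val (q_cop D (q := (S.a : Cz z)⁻¹ * zc z) (Q.mul_mem (Q.inv_mem S.a.2) D.zc_mem)
          (Subtype.ext h))
      exact S.a_facts.2 (inv_mul_eq_one.mp h2)
  · obtain ⟨π, F, hFs, hFk, -, -⟩ := S.exists_F
    exact ⟨(QuotientGroup.quotientMulEquivOfEq hFk.symm).trans (QuotientGroup.quotientKerEquivOfSurjective F hFs)⟩

end Thom

end CfsgLib.MonsterQ.Thompson
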